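import Mathlib.RingTheory.Bialgebra.MonoidAlgebra
import Mathlib.RingTheory.Coalgebra.GroupLike
import Mathlib.LinearAlgebra.TensorProduct.Basis

set_option autoImplicit false

/-!
Group-like elements of monoid algebras over connected rings.
-/

noncomputable section

universe u v

open scoped TensorProduct

namespace Groth.Agent.DiagHopf

variable {R : Type u} [CommRing R] {M : Type v} [Monoid M]

theorem coeff_mul_coeff_of_groupLike [DecidableEq M] {x : MonoidAlgebra R M} (h : IsGroupLikeElem R x) (a b : M) :
    x.coeff a * x.coeff b = if a = b then x.coeff a else 0 := by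
  let B := MonoidAlgebra.basis M R
  have hB : ∀ (y : MonoidAlgebra R M) (c : M), B.repr y c = y.coeff c := fun y c => rfl
  have e : ∀ y : MonoidAlgebra R M, (B.tensorProduct B).repr (CoalgebraStruct.comul y) (a, b) =
      if a = b then y.coeff a else 0 := by
    intro y
    induction y using MonoidAlgebra.induction_linear with
    | zero => simp
    | add p q hp hq => simp only [map_add, Finsupp.add_apply, hp, hq, MonoidAlgebra.coeff_add]; split_ifs <;> simp
    | single m r =>
      rw [show MonoidAlgebra.single m r = r • B m by simp [B]]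
      rw [map_smul, map_smul, show CoalgebraStruct.comul (R := R) (B m) = B m ⊗ₜ[R] B m by simp [B],
        ← Module.Basis.tensorProduct_apply, Module.Basis.repr_self, Finsupp.smul_apply, Finsupp.single_apply]
      simp only [B, MonoidAlgebra.basis_apply, MonoidAlgebra.smul_single, smul_eq_mul, mul_one,
        MonoidAlgebra.coeff_single, Finsupp.single_apply, Prod.mk.injEq]
      split_ifs with h1 h2 h3 <;> first | rfl | simp_all
      exact absurd (h1.1.symm.trans h1.2) h2
  have := e x
  rw [h.comul_eq_tmul_self, Module.Basis.tensorProduct_repr_tmul_apply, smul_eq_mul, hB, hB] at this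
  rw [mul_comm, this]

theorem exists_single_of_groupLike [Nontrivial R] (hconn : ∀ e : R, IsIdempotentElem e → e = 0 ∨ e = 1)
    {x : MonoidAlgebra R M} (h : IsGroupLikeElem R x) : ∃ m, x = MonoidAlgebra.single m 1 := by
  classical
  have h1 : ∀ y : MonoidAlgebra R M, Coalgebra.counit (R := R) y = y.coeff.sum fun _ r => r := by
    intro y
    induction y using MonoidAlgebra.induction_linear with
    | zero => simp
    | add p q hp hq => rw [map_add, hp, hq, MonoidAlgebra.coeff_add, Finsupp.sum_add_index] <;> simp
    | single m r => simp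
  have hs : (x.coeff.sum fun _ r => r) = 1 := (h1 x).symm.trans h.counit_eq_one
  obtain ⟨m, -, hm⟩ := Finset.exists_ne_zero_of_sum_ne_zero (s := x.coeff.support) (f := fun m => x.coeff m)
    (by rw [show ∑ m ∈ x.coeff.support, x.coeff m = 1 from hs]; exact one_ne_zero)
  have hm1 : x.coeff m = 1 := by
    refine (hconn _ ?_).resolve_left hm
    have := coeff_mul_coeff_of_groupLike h m m
    rwa [if_pos rfl] at this
  refine ⟨m, MonoidAlgebra.ext (Finsupp.ext fun c => ?_)⟩
  have := coeff_mul_coeff_of_groupLike h m c
  rw [hm1, one_mul] at this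
  rw [this, MonoidAlgebra.coeff_single, Finsupp.single_apply]

theorem exists_eq_mapDomainBialgHom [Nontrivial R] (hconn : ∀ e : R, IsIdempotentElem e → e = 0 ∨ e = 1)
    {N : Type v} [Group N] {G : Type v} [Group G] (φ : MonoidAlgebra R N →ₐc[R] MonoidAlgebra R G) :
    ∃ f : N →* G, φ = MonoidAlgebra.mapDomainBialgHom (R := R) f := by
  have key : ∀ n, ∃ g, φ (MonoidAlgebra.single n 1) = MonoidAlgebra.single g 1 := fun n =>
    exists_single_of_groupLike hconn ((MonoidAlgebra.isGroupLikeElem_single_one n).map φ)
  choose f hf using key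
  have hmul : ∀ a b, f (a * b) = f a * f b := fun a b =>
    MonoidAlgebra.single_left_injective (R := R) one_ne_zero (by
      show MonoidAlgebra.single (f (a * b)) (1 : R) = MonoidAlgebra.single (f a * f b) 1
      rw [← hf, ← one_mul (1 : R), ← MonoidAlgebra.single_mul_single, ← MonoidAlgebra.single_mul_single, map_mul,
        hf, hf])
  refine ⟨MonoidHom.mk' f hmul, ?_⟩
  apply BialgHom.coe_toAlgHom_injective
  refine MonoidAlgebra.algHom_ext (fun n => ?_) (Subsingleton.elim _ _)
  simp [hf]

end Groth.Agent.DiagHopf
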