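import Groth.Agent.DiagHopfLib.Descent
import Mathlib.LinearAlgebra.TensorProduct.Quotient
import Mathlib.RingTheory.Jacobson.Ideal

set_option autoImplicit false

/-!
Rigidity of homomorphisms out of groups of multiplicative type.
-/

noncomputable section

universe u w

open scoped TensorProduct
open Groth.Agent.TorusField WithConv

namespace Groth.Agent.DiagHopf

variable {R : Type u} [CommRing R] {A : Type u} [CommRing A] [HopfAlgebra R A]
  {C : Type u} [CommRing C] [HopfAlgebra R C]

/-- Compatibility with comultiplication. -/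
def RespComul (φ : C →ₐ[R] A) : Prop :=
  (Algebra.TensorProduct.map φ φ).comp (Bialgebra.comulAlgHom R C) = (Bialgebra.comulAlgHom R A).comp φ

theorem respComul_bialgHom (φ : C →ₐc[R] A) : RespComul (φ : C →ₐ[R] A) := by
  apply AlgHom.ext
  intro c
  exact CoalgHomClass.map_comp_comul_apply φ c

theorem mem_map_of_tmul_eq_zero {I : Ideal R} {x : A} (h : (1 : R ⧸ I) ⊗ₜ[R] x = 0) :
    x ∈ I.map (algebraMap R A) := by
  have e := congrArg (TensorProduct.quotTensorEquivQuotSMul A I) h
  rw [map_zero, show (1 : R ⧸ I) = Ideal.Quotient.mk I 1 from rfl, TensorProduct.quotTensorEquivQuotSMul_mk_tmul,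
    one_smul, Submodule.Quotient.mk_eq_zero, Ideal.smul_top_eq_map] at e
  exact e

theorem eq_bot_of_le_sq_of_pow {S : Type u} [CommRing S] {I : Ideal S} (h : I ≤ I * I) {J : Ideal S} (hJ : IsNilpotent J)
    (hIJ : I ≤ J) : I = ⊥ := by
  obtain ⟨n, hn⟩ := hJ
  have key : ∀ k : ℕ, I ≤ J ^ k := by
    intro k
    induction k with
    | zero => simp
    | succ k ih => exact h.trans ((Ideal.mul_mono ih hIJ).trans (le_of_eq (pow_succ J k).symm))
  exact le_bot_iff.1 ((key n).trans (le_of_eq hn))

theorem trivial_of_nilpotent (hA : SGA3b.IsMultType R A) {I : Ideal R} (hI : IsNilpotent I) (φ : C →ₐ[R] A)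
    (hφ : RespComul φ) (h : ∀ c, φ c - algebraMap R A (Coalgebra.counit c) ∈ I.map (algebraMap R A)) (c : C) :
    φ c = algebraMap R A (Coalgebra.counit c) := by
  obtain ⟨s, hs, H⟩ := exists_cover_split hA
  refine sub_eq_zero.1 (eq_zero_of_cover hs _ fun f hf => ?_)
  obtain ⟨S, _, _, _, _, N, _, hff, ⟨E⟩⟩ := H f hf
  refine ⟨S, inferInstance, inferInstance, inferInstance, inferInstance, hff,
    eq_zero_of_coefIdeal_eq_bot E (X := Set.range fun c => φ c - algebraMap R A (Coalgebra.counit c)) ?_ ⟨c, rfl⟩⟩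
  refine eq_bot_of_le_sq_of_pow (coefIdeal_le_sq E φ hφ) (J := I.map (algebraMap R S)) ?_
    (coefIdeal_le_map E (by rintro _ ⟨c, rfl⟩; exact h c))
  obtain ⟨n, hn⟩ := hI
  refine ⟨n, ?_⟩
  rw [← Ideal.map_pow, hn, Submodule.zero_eq_bot, Ideal.map_bot]
  rfl

theorem trivial_of_isLocalRing [IsLocalRing R] (hA : SGA3b.IsMultType R A)
    (hC : IsNoetherianRing R ∨ Algebra.FiniteType R C) (φ : C →ₐ[R] A) (hφ : RespComul φ)
    (h : ∀ c, φ c - algebraMap R A (Coalgebra.counit c) ∈
      (IsLocalRing.maximalIdeal R).map (algebraMap R A)) (c : C) :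
    φ c = algebraMap R A (Coalgebra.counit c) := by
  obtain ⟨S, _, _, N, _, hff, ⟨E⟩⟩ := exists_split_of_isLocalRing hA
  haveI := hff
  set X := Set.range fun c => φ c - algebraMap R A (Coalgebra.counit c)
  set I := coefIdeal E X
  set I₀ := I.comap (algebraMap R S)
  have hI : I = I₀.map (algebraMap R S) := exists_descent E X
  have hinj : ∀ J : Ideal R, (J.map (algebraMap R S)).comap (algebraMap R S) = J := fun J =>
    Ideal.comap_map_eq_self_of_faithfullyFlat J
  have hm : I₀ ≤ IsLocalRing.maximalIdeal R := by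
    rw [← hinj (IsLocalRing.maximalIdeal R)]
    exact Ideal.comap_mono (coefIdeal_le_map E (by rintro _ ⟨c, rfl⟩; exact h c))
  have hsq : I₀ ≤ I₀ * I₀ := by
    rw [← hinj (I₀ * I₀), Ideal.map_mul, ← hI]
    exact Ideal.comap_mono (coefIdeal_le_sq E φ hφ)
  have hfg : I₀.FG := by
    rcases hC with hR | hC
    · exact IsNoetherian.noetherian _
    · haveI := hC
      obtain ⟨T, hT⟩ := coefIdeal_fg E φ
      -- every generator involves finitely many elements of `I₀`
      have hex : ∀ t ∈ T, ∃ G : Finset R, (G : Set R) ⊆ I₀ ∧ t ∈ (Ideal.span (G : Set R)).map (algebraMap R S) := by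
        intro t ht
        have ht' : t ∈ I₀.map (algebraMap R S) := by
          rw [← hI]
          have h' : t ∈ Ideal.span (T : Set S) := Ideal.subset_span ht
          rw [hT] at h'
          exact h'
        rw [Ideal.map] at ht'
        obtain ⟨G, hG, htG⟩ := Submodule.mem_span_finite_of_mem_span ht'
        choose g hg hg' using fun x : G => hG x.2
        classical
        refine ⟨Finset.univ.image g, by
          intro x hx; simp only [Finset.coe_image, Set.mem_image] at hx; obtain ⟨y, -, rfl⟩ := hx; exact hg y, ?_⟩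
        refine (Submodule.span_le.2 ?_ : _ ≤ (_ : Ideal S)) htG
        intro x hx
        show x ∈ _
        rw [← (show algebraMap R S (g ⟨x, hx⟩) = x from hg' ⟨x, hx⟩)]
        exact Ideal.mem_map_of_mem _ (Ideal.subset_span (by simp))
      choose G hG hGt using hex
      classical
      let U := T.attach.biUnion fun t => G t.1 t.2
      refine ⟨U, le_antisymm (Ideal.span_le.2 ?_) ?_⟩
      · intro x hx
        simp only [U, Finset.coe_biUnion, Set.mem_iUnion] at hx
        obtain ⟨t, -, hx⟩ := hx
        exact hG t.1 t.2 hx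
      · rw [← hinj (Ideal.span (U : Set R))]
        refine Ideal.comap_mono ?_
        show I ≤ _
        rw [show I = coefIdeal E X from rfl, ← hT]
        refine Ideal.span_le.2 fun t ht => Ideal.map_mono (Ideal.span_mono ?_) (hGt t ht)
        exact Finset.coe_subset.2 (Finset.subset_biUnion_of_mem (fun t : T => G t.1 t.2) (Finset.mem_attach _ ⟨t, ht⟩))
  have h0 : I₀ = ⊥ := Submodule.eq_bot_of_le_smul_of_le_jacobson_bot I₀ I₀ hfg (by rwa [smul_eq_mul])
    (hm.trans (IsLocalRing.maximalIdeal_le_jacobson ⊥))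
  have hIbot : I = ⊥ := by rw [hI, h0, Ideal.map_bot]
  have hz := eq_zero_of_coefIdeal_eq_bot E hIbot (x := φ c - algebraMap R A (Coalgebra.counit c)) ⟨c, rfl⟩
  apply sub_eq_zero.1
  exact Module.FaithfullyFlat.tensorProduct_mk_injective (A := R) (B := S) A
    (by simp only [TensorProduct.mk_apply, hz, TensorProduct.tmul_zero])

section Cocomm

variable [Coalgebra.IsCocomm R C]

/-- The quotient of two homomorphisms into a commutative group. -/
def convDiff (φ ψ : C →ₐ[R] A) : C →ₐ[R] A := (toConv φ * (toConv ψ)⁻¹).ofConv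

omit [Coalgebra.IsCocomm R C] in
theorem comp_toConv_inv {B : Type u} [CommRing B] [Bialgebra R B] (g : A →ₐ[R] B) (ψ : WithConv (C →ₐ[R] A)) :
    toConv (g.comp (ψ⁻¹).ofConv) = (toConv (g.comp ψ.ofConv))⁻¹ := rfl

theorem respComul_convDiff {φ ψ : C →ₐ[R] A} (hφ : RespComul φ) (hψ : RespComul ψ) : RespComul (convDiff φ ψ) := by
  let L : WithConv (C →ₐ[R] A) →* WithConv (C →ₐ[R] A ⊗[R] A) :=
    { toFun := fun f => toConv ((Bialgebra.comulAlgHom R A).comp f.ofConv)
      map_one' := by
        apply WithConv.ext; apply AlgHom.ext; intro x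
        simp [AlgHom.convOne_def]
      map_mul' := fun f g => by rw [AlgHom.comp_convMul_distrib] }
  let P : WithConv (C →ₐ[R] A) →* WithConv (C →ₐ[R] A ⊗[R] A) :=
    { toFun := fun f => toConv ((Algebra.TensorProduct.includeLeft : A →ₐ[R] A ⊗[R] A).comp f.ofConv) *
        toConv ((Algebra.TensorProduct.includeRight : A →ₐ[R] A ⊗[R] A).comp f.ofConv)
      map_one' := by
        have : ∀ i : A →ₐ[R] A ⊗[R] A, toConv (i.comp (1 : WithConv (C →ₐ[R] A)).ofConv) = 1 := fun i => by
          apply WithConv.ext; apply AlgHom.ext; intro x; simp [AlgHom.convOne_def]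
        rw [this, this, one_mul]
      map_mul' := fun f g => by
        rw [AlgHom.comp_convMul_distrib, AlgHom.comp_convMul_distrib]
        simp only [toConv_ofConv]
        exact mul_mul_mul_comm _ _ _ _ }
  have key : ∀ f : C →ₐ[R] A, RespComul f ↔ L (toConv f) = P (toConv f) := by
    intro f
    have e : (P (toConv f)).ofConv = (Algebra.TensorProduct.map f f).comp (Bialgebra.comulAlgHom R C) := by
      apply AlgHom.ext
      intro x
      show (P (toConv f)) x = _
      simp only [P, MonoidHom.coe_mk, OneHom.coe_mk, ofConv_toConv]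
      rw [AlgHom.convMul_apply]
      simp only [AlgHom.comp_apply, Bialgebra.comulAlgHom_apply]
      generalize CoalgebraStruct.comul (R := R) x = z
      induction z using TensorProduct.induction_on with
      | zero => simp
      | add a b ha hb => simp only [map_add, ha, hb]
      | tmul a b => simp
    constructor
    · intro h
      apply WithConv.ext
      rw [e]
      exact h.symm
    · intro h
      have := congrArg WithConv.ofConv h
      rw [e] at this
      exact this.symm
  refine (key _).2 ?_
  show L (toConv φ * (toConv ψ)⁻¹) = P (toConv φ * (toConv ψ)⁻¹)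
  rw [map_mul, map_mul, map_inv, map_inv, (key φ).1 hφ, (key ψ).1 hψ]

theorem convDiff_mem {J : Ideal A} (φ ψ : C →ₐ[R] A) (h : ∀ c, φ c - ψ c ∈ J) (c : C) :
    convDiff φ ψ c - algebraMap R A (Coalgebra.counit c) ∈ J := by
  let g := Ideal.Quotient.mkₐ R J
  have hg : g.comp φ = g.comp ψ := AlgHom.ext fun c => Ideal.Quotient.eq.2 (h c)
  let Q : WithConv (C →ₐ[R] A) →* WithConv (C →ₐ[R] A ⧸ J) :=
    { toFun := fun f => toConv (g.comp f.ofConv)
      map_one' := by
        apply WithConv.ext; apply AlgHom.ext; intro x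
        simp [AlgHom.convOne_def]
      map_mul' := fun f f' => by rw [AlgHom.comp_convMul_distrib] }
  have h1 : Q (toConv φ * (toConv ψ)⁻¹) = 1 := by
    rw [map_mul, show Q (toConv φ) = Q (toConv ψ) from congrArg toConv hg, ← map_mul, mul_inv_cancel, map_one]
  have h2 : g (convDiff φ ψ c) = algebraMap R (A ⧸ J) (Coalgebra.counit c) := by
    have := congrArg (fun f : WithConv (C →ₐ[R] A ⧸ J) => f c) h1
    simpa [Q, convDiff, AlgHom.convOne_def] using this
  exact Ideal.Quotient.eq.1 (by simpa [g] using h2)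

theorem eq_of_convDiff {φ ψ : C →ₐ[R] A} (h : ∀ c, convDiff φ ψ c = algebraMap R A (Coalgebra.counit c)) :
    φ = ψ := by
  have : toConv φ * (toConv ψ)⁻¹ = 1 := by
    apply WithConv.ext; apply AlgHom.ext; intro c
    simpa [AlgHom.convOne_def, convDiff] using h c
  exact congrArg WithConv.ofConv (mul_inv_eq_one.1 this)

end Cocomm

end Groth.Agent.DiagHopf
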