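import Groth.Agent.DiagHopfLib.Groups
import Groth.Agent.DiagHopfLib.Rigid
import Groth.Agent.TorusFieldLib.Galois
import Mathlib.RingTheory.Bialgebra.Quotient
import Mathlib.RingTheory.HopfAlgebra.Quotient
import Mathlib.FieldTheory.IntermediateField.Adjoin.Basic

set_option autoImplicit false

/-!
Groups of multiplicative type over fields.
-/

noncomputable section

universe u w

open scoped TensorProduct
open Groth.Agent.TorusField

namespace Groth.Agent.DiagHopf

variable {K : Type u} [Field K] {A : Type u} [CommRing A] [Bialgebra K A] {M : Type w} [AddCommGroup M]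

theorem repr_basis_push {ι : Type*} (b : Module.Basis ι K A) {S S' : Type u} [CommRing S] [Algebra K S] [CommRing S']
    [Algebra K S'] (f : S →ₐ[K] S') (z : S ⊗[K] A) (j : ι) :
    (Algebra.TensorProduct.basis S' b).repr (push f z) j = f ((Algebra.TensorProduct.basis S b).repr z j) := by
  induction z using TensorProduct.induction_on with
  | zero => simp
  | add p q hp hq => simp only [map_add, Finsupp.add_apply, hp, hq]
  | tmul s a => simp [push, Algebra.TensorProduct.basis_repr_tmul]

theorem mem_range_push {ι : Type*} (b : Module.Basis ι K A) {S S' : Type u} [CommRing S] [Algebra K S] [CommRing S']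
    [Algebra K S'] (f : S →ₐ[K] S') (z : S' ⊗[K] A)
    (h : ∀ j, (Algebra.TensorProduct.basis S' b).repr z j ∈ f.range) : z ∈ (push (A := A) f).range := by
  rw [← (Algebra.TensorProduct.basis S' b).linearCombination_repr z, Finsupp.linearCombination_apply, Finsupp.sum]
  refine sum_mem fun j _ => ?_
  obtain ⟨s, hs⟩ := h j
  refine ⟨s ⊗ₜ b j, ?_⟩
  rw [Algebra.TensorProduct.basis_apply, TensorProduct.smul_tmul', smul_eq_mul, mul_one, ← hs]
  rfl

/-- Splittings descend to subfields containing the group-like elements. -/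
theorem exists_split_sub {L F : Type u} [Field L] [Field F] [Algebra K L] [Algebra K F] (f : L →ₐ[K] F)
    (E : Split K A M F) (h : ∀ m, E.e m ∈ (push (A := A) f).range) : Nonempty (Split K A M L) := by
  letI := f.toRingHom.toAlgebra
  haveI : IsScalarTower K L F := IsScalarTower.of_algebraMap_eq fun x => (f.commutes x).symm
  choose ε hε using fun m => AlgHom.mem_range _ |>.1 (h m)
  have hf : Function.Injective f := f.toRingHom.injective
  have hι : Function.Injective (push (A := A) f) :=
    Module.Flat.rTensor_preserves_injective_linearMap (M := A) f.toLinearMap hf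
  have hli : LinearIndependent L ε := by
    rw [linearIndependent_iff]
    intro l hl
    have h := congrArg (push f) hl
    rw [Finsupp.linearCombination_apply, Finsupp.sum, map_sum, map_zero] at h
    simp only [push_smul, hε] at h
    ext m
    have := linearIndependent_iff'.1 E.e.linearIndependent l.support (fun m => f (l m)) h m
    by_cases hm : m ∈ l.support
    · exact hf ((this hm).trans (map_zero f).symm)
    · simpa using hm
  have hspan : ⊤ ≤ Submodule.span L (Set.range ε) := by
    set W := Submodule.span L (Set.range ε)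
    let c := TensorProduct.AlgebraTensorModule.cancelBaseChange K L F F A
    have hc : ∀ z : L ⊗[K] A, c (1 ⊗ₜ z) = push f z := by
      intro z
      induction z using TensorProduct.induction_on with
      | zero => simp
      | add p q hp hq => simp only [TensorProduct.tmul_add, map_add, hp, hq]
      | tmul s a => simp [c, push, Algebra.smul_def]; rfl
    have hsurj : Function.Surjective (W.subtype.lTensor F) := by
      intro y
      let T : Submodule F (F ⊗[L] (L ⊗[K] A)) := LinearMap.range (W.subtype.baseChange F)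
      suffices y ∈ T from this
      obtain ⟨z, rfl⟩ := c.symm.surjective y
      rw [← E.e.linearCombination_repr z, Finsupp.linearCombination_apply, Finsupp.sum, map_sum]
      refine sum_mem fun m _ => ?_
      rw [map_smul, ← hε, ← hc, LinearEquiv.symm_apply_apply]
      exact T.smul_mem _ ⟨(1 : F) ⊗ₜ ⟨ε m, Submodule.subset_span ⟨m, rfl⟩⟩, rfl⟩
    intro x _
    obtain ⟨w, hw⟩ := (Module.FaithfullyFlat.lTensor_surjective_iff_surjective L F W.subtype).1 hsurj x
    rw [← hw]; exact w.2
  exact ⟨{
    e := Module.Basis.mk hli hspan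
    e_zero := hι (by rw [Module.Basis.mk_apply, hε, map_one, E.e_zero])
    e_add := fun a b => hι (by simp only [Module.Basis.mk_apply, map_mul, hε, E.e_add])
    gl := fun a => by rw [Module.Basis.mk_apply]; exact IsGL.of_push f hf (by rw [hε]; exact E.gl a) }⟩

/-- Group-like elements over a field have separable coordinates. -/
theorem coord_mem_separableClosure {F : Type u} [Field F] [Algebra K F] [Algebra.IsAlgebraic K F]
    (E : Split K A M F) {ι : Type*} (b : Module.Basis ι K A) (c : M) (j : ι) :
    (Algebra.TensorProduct.basis F b).repr (E.e c) j ∈ separableClosure K F := by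
  let Ks := separableClosure K F
  let i₁ : F →ₐ[K] F ⊗[Ks] F :=
    (Algebra.TensorProduct.includeLeft : F →ₐ[Ks] F ⊗[Ks] F).restrictScalars K
  let i₂ : F →ₐ[K] F ⊗[Ks] F :=
    (Algebra.TensorProduct.includeRight : F →ₐ[Ks] F ⊗[Ks] F).restrictScalars K
  let μ : F ⊗[Ks] F →ₐ[K] F := (Algebra.TensorProduct.lmul' Ks (S := F)).restrictScalars K
  have h₁ : μ.comp i₁ = AlgHom.id K F := by ext x; simp [μ, i₁]
  have h₂ : μ.comp i₂ = AlgHom.id K F := by ext x; simp [μ, i₂]
  have hnil : ∀ x, μ x = 0 → IsNilpotent x := by
    intro x hx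
    obtain ⟨N, hN, y, hy⟩ := IsPurelyInseparable.exists_pow_mem_range_tensorProduct (R := F) x
    refine ⟨N, ?_⟩
    have h := congrArg μ hy
    rw [map_pow, hx, zero_pow hN.ne'] at h
    have hy0 : y = 0 := by simpa [μ, Algebra.TensorProduct.algebraMap_apply] using h
    rw [← hy, hy0, map_zero]
  obtain ⟨E₁, hE₁⟩ := exists_split_push E i₁
  have he : push i₂ (E.e c) = push i₁ (E.e c) := by
    rw [← hE₁]
    exact E₁.eq_of_push_eq μ hnil ((E.gl c).push i₂) c (by rw [hE₁, ← push_comp, ← push_comp, h₁, h₂])
  set r := (Algebra.TensorProduct.basis F b).repr (E.e c) j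
  have h : i₂ r = i₁ r := by rw [← repr_basis_push b i₂, ← repr_basis_push b i₁, he]
  by_contra hmem
  have hns : r ∉ (Algebra.linearMap Ks F).range := by
    rintro ⟨k, hk⟩
    exact hmem (hk ▸ k.2)
  obtain ⟨φ, hφ, hφ1⟩ := Submodule.exists_dual_map_eq_bot_of_notMem hns inferInstance
  have h1 : φ 1 = 0 := by
    have : φ 1 ∈ (Algebra.linearMap Ks F).range.map φ := ⟨1, ⟨1, by simp⟩, rfl⟩
    rwa [hφ1, Submodule.mem_bot] at this
  have e := congrArg (TensorProduct.lift ((LinearMap.lsmul Ks F).comp φ)) h
  simp [i₁, i₂, h1] at e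
  exact hφ (by simpa [Algebra.smul_def] using e.symm)

theorem fg_of_split [Algebra.FiniteType K A] {L : Type u} [Field L] [Algebra K L] (E : Split K A M L) :
    AddMonoid.FG M := by
  classical
  obtain ⟨G, hG⟩ := (Algebra.FiniteType.out : (⊤ : Subalgebra K A).FG)
  let T : Finset M := G.biUnion fun g => (E.e.repr ((1 : L) ⊗ₜ[K] g)).support
  let P : Submodule L (L ⊗[K] A) := Submodule.span L (E.e '' (AddSubmonoid.closure (T : Set M) : Set M))
  have hone : (1 : L ⊗[K] A) ∈ P := Submodule.subset_span ⟨0, zero_mem _, E.e_zero⟩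
  have hmul : ∀ x y, x ∈ P → y ∈ P → x * y ∈ P := by
    intro x y hx hy
    have h := Submodule.mul_mem_mul hx hy
    rw [Submodule.span_mul_span] at h
    refine Submodule.span_mono ?_ h
    rintro z ⟨_, ⟨a, ha, rfl⟩, _, ⟨b, hb, rfl⟩, rfl⟩
    exact ⟨a + b, add_mem ha hb, E.e_add a b⟩
  let B := P.toSubalgebra hone hmul
  have hA : ∀ a : A, (1 : L) ⊗ₜ[K] a ∈ B := by
    intro a
    have ha : a ∈ Algebra.adjoin K (G : Set A) := hG ▸ Algebra.mem_top
    have : a ∈ (B.restrictScalars K).comap (Algebra.TensorProduct.includeRight : A →ₐ[K] L ⊗[K] A) := by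
      refine Algebra.adjoin_le (fun g hg => ?_) ha
      show (1 : L) ⊗ₜ[K] g ∈ P
      rw [← E.e.linearCombination_repr ((1 : L) ⊗ₜ[K] g), Finsupp.linearCombination_apply, Finsupp.sum]
      exact sum_mem fun m hm => P.smul_mem _ (Submodule.subset_span
        ⟨m, AddSubmonoid.subset_closure (Finset.mem_biUnion.2 ⟨g, hg, hm⟩), rfl⟩)
    exact this
  have htop : P = ⊤ := by
    rw [eq_top_iff]
    rintro x -
    induction x using TensorProduct.induction_on with
    | zero => exact zero_mem _
    | add p q hp hq => exact add_mem hp hq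
    | tmul r a =>
      rw [show r ⊗ₜ[K] a = r • ((1 : L) ⊗ₜ[K] a) by rw [TensorProduct.smul_tmul', smul_eq_mul, mul_one]]
      exact P.smul_mem r (hA a)
  refine ⟨⟨T, eq_top_iff.2 fun m _ => ?_⟩⟩
  by_contra hm
  exact E.e.linearIndependent.notMem_span_image hm (htop ▸ Submodule.mem_top : E.e m ∈ P)

theorem exists_split_algClosure' [Algebra.FiniteType K A] {L : Type u} [Field L] [Algebra K L]
    {M : Type u} [AddCommGroup M] (E : Split K A M L) (F : Type u) [Field F] [Algebra K F] [IsAlgClosed F] :
    Nonempty (Split K A M F) := by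
  haveI := fg_of_split E
  haveI : AddGroup.FG M := AddGroup.fg_iff_addMonoid_fg.2 inferInstance
  haveI : Module.Finite ℤ M := Module.Finite.iff_addGroup_fg.2 inferInstance
  exact exists_split_algClosure E F

theorem exists_field_split {A : Type u} [CommRing A] [HopfAlgebra K A] (h : SGA3b.IsMultType K A) :
    ∃ (L : Type u) (_ : Field L) (_ : Algebra K L) (N : Type u) (_ : CommGroup N),
      Nonempty (Split K A (Additive N) L) := by
  obtain ⟨S, _, _, N, _, hff, ⟨E⟩⟩ := exists_split_of_isLocalRing h
  haveI := hff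
  haveI : Nontrivial S := by
    have h0 := Module.FaithfullyFlat.submodule_ne_top (R := K) (M := S) (Ideal.bot_isMaximal : (⊥ : Ideal K).IsMaximal)
    rw [Submodule.bot_smul] at h0
    exact (Submodule.nontrivial_iff K).1 ⟨⟨⊥, ⊤, h0⟩⟩
  obtain ⟨m, hm⟩ := Ideal.exists_maximal S
  letI := Ideal.Quotient.field m
  obtain ⟨E', -⟩ := exists_split_push E (Ideal.Quotient.mkₐ K m)
  exact ⟨S ⧸ m, inferInstance, inferInstance, N, inferInstance, ⟨E'⟩⟩

theorem isotrivial_of_field {A : Type u} [CommRing A] [HopfAlgebra K A] (hft : Algebra.FiniteType K A)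
    (h : SGA3b.IsMultType K A) :
    ∃ (k' : Type u) (_ : Field k') (_ : Algebra K k'), Module.Finite K k' ∧ Algebra.IsSeparable K k' ∧
      SGA3b.IsDiagFT k' (k' ⊗[K] A) := by
  classical
  obtain ⟨L, _, _, N, _, ⟨E₀⟩⟩ := exists_field_split h
  obtain ⟨E⟩ := exists_split_algClosure' E₀ (AlgebraicClosure K)
  have hfg := fg_of_split E
  obtain ⟨T, hT⟩ := hfg.fg_top
  let b := Module.Free.chooseBasis K A
  let F := AlgebraicClosure K
  let C : Set F := ⋃ t ∈ (T : Set (Additive N)),
    (((Algebra.TensorProduct.basis F b).repr (E.e t)).support : Set _).image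
      ((Algebra.TensorProduct.basis F b).repr (E.e t))
  have hC : C.Finite := T.finite_toSet.biUnion fun t _ => (Finset.finite_toSet _).image _
  have hCs : C ⊆ separableClosure K F := by
    intro x hx
    simp only [C, Set.mem_iUnion, Set.mem_image] at hx
    obtain ⟨t, -, j, -, rfl⟩ := hx
    exact coord_mem_separableClosure E b t j
  let L' := IntermediateField.adjoin K C
  haveI : Algebra.IsSeparable K L' :=
    IntermediateField.isSeparable_adjoin_iff_isSeparable K F |>.2 fun x hx => mem_separableClosure_iff.1 (hCs hx)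
  haveI := hC.to_subtype
  haveI : FiniteDimensional K L' := IntermediateField.finiteDimensional_adjoin
    (hS := fun x _ => Algebra.IsIntegral.isIntegral x)
  have hmem : ∀ m, E.e m ∈ (push (A := A) L'.val).range := by
    intro m
    have hm : m ∈ AddSubmonoid.closure (T : Set (Additive N)) := hT ▸ AddSubmonoid.mem_top m
    induction hm using AddSubmonoid.closure_induction with
    | mem t ht =>
      refine mem_range_push b L'.val _ fun j => ?_
      by_cases hj : j ∈ ((Algebra.TensorProduct.basis F b).repr (E.e t)).support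
      · exact ⟨⟨_, IntermediateField.subset_adjoin K C (Set.mem_biUnion ht ⟨j, hj, rfl⟩)⟩, rfl⟩
      · rw [Finsupp.notMem_support_iff.1 hj]; exact zero_mem _
    | zero => rw [E.e_zero]; exact one_mem _
    | add x y _ _ hx hy => rw [E.e_add]; exact mul_mem hx hy
  obtain ⟨E'⟩ := exists_split_sub L'.val E hmem
  refine ⟨L', inferInstance, inferInstance, inferInstance, inferInstance, N, inferInstance, ?_, exists_bialgEquiv E'⟩
  rw [Group.fg_iff_monoid_fg, Monoid.fg_iff_add_fg]
  exact hfg

end Groth.Agent.DiagHopf
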