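import Mathlib
import Groth.Agent.UnipHopfLib.Component
import Groth.Agent.GLinFinLib.GroupLike
import Groth.Agent.UnipHopfLib.Primitive

/-!
Diagonalizable Hopf algebras: primitive elements, descent to separably closed fields.
-/

set_option autoImplicit false

noncomputable section

universe u v

open TensorProduct HopfRep WithConv
open scoped ComodLib

namespace Groth.Agent.DiagHopfLib

open UnipHopf

set_option maxHeartbeats 2000000

variable {k : Type u} [Field k] {A : Type v} [CommRing A]

section bialg

variable [Bialgebra k A]

local notation "𝔸" => ComodLib.Dual' k A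

lemma smul_groupLike {g : A} (hg : IsGroupLikeElem k g) (f : 𝔸) : f • g = f g • g := by
  rw [ComodLib.smul_eq, show Comod.coact (k := k) (A := A) g = CoalgebraStruct.comul (R := k) g from rfl,
    hg.comul_eq_tmul_self, ComodLib.slice_tmul]

/-- A diagonalizable bialgebra is cocommutative. -/
lemma isCocomm_of_isDiagonalizable (h : IsDiagonalizable k A) : Coalgebra.IsCocomm k A := by
  obtain ⟨ι, b, hb⟩ := GLinFinLib.GroupLike.exists_basis h
  refine ⟨b.ext fun i => ?_⟩
  show TensorProduct.comm k A A (CoalgebraStruct.comul (R := k) (b i)) = CoalgebraStruct.comul (R := k) (b i)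
  rw [(hb i).comul_eq_tmul_self, TensorProduct.comm_tmul]

/-- A diagonalizable bialgebra has no nonzero primitive element. -/
lemma primitive_eq_zero (h : IsDiagonalizable k A) {x : A}
    (hx : CoalgebraStruct.comul (R := k) x = x ⊗ₜ[k] (1 : A) + (1 : A) ⊗ₜ[k] x) : x = 0 := by
  classical
  obtain ⟨ι, b, hb⟩ := GLinFinLib.GroupLike.exists_basis h
  have key : ∀ i, b.repr x i = b.repr x i * b.repr (1 : A) i + b.repr (1 : A) i * b.repr x i := by
    intro i
    have h1 := congrArg (TensorProduct.lid k k ∘ₗ
      TensorProduct.map (b.coord i) (b.coord i) : A ⊗[k] A →ₗ[k] k) hx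
    simp only [map_add, LinearMap.comp_apply, LinearEquiv.coe_coe, TensorProduct.map_tmul,
      TensorProduct.lid_tmul, Module.Basis.coord_apply, smul_eq_mul] at h1
    rw [← h1]
    conv_rhs => rw [← b.linearCombination_repr x]
    rw [Finsupp.linearCombination_apply, Finsupp.sum]
    simp [(hb _).comul_eq_tmul_self, Finsupp.single_apply]
  -- the unit is one of the basis vectors
  obtain ⟨i₀, hi₀⟩ : ∃ i, b i = 1 := by
    by_contra hne
    push Not at hne
    have hli : LinearIndepOn k id (insert (1 : A) (Set.range b)) := linearIndepOn_isGroupLikeElem.mono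
      (Set.insert_subset IsGroupLikeElem.one (Set.range_subset_iff.2 hb))
    have h1 : (1 : A) ∉ Submodule.span k (Set.range b) :=
      (linearIndepOn_id_insert (show (1 : A) ∉ Set.range b from fun ⟨i, hi⟩ => hne i hi)).1 hli |>.2
    exact h1 (b.mem_span _)
  apply b.repr.injective
  ext i
  have := key i
  rw [← hi₀, b.repr_self, Finsupp.single_apply] at this
  rw [map_zero, Finsupp.zero_apply]
  split_ifs at this with hi
  · linear_combination -this
  · simpa using this

/-- Without primitive elements the unipotent filtration is constant. -/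
lemma mem_span_one_of_mem_K
    (hP : ∀ x : A, CoalgebraStruct.comul (R := k) x = x ⊗ₜ[k] (1 : A) + (1 : A) ⊗ₜ[k] x → x = 0)
    {n : ℕ} {a : A} (ha : a ∈ K k A n) : a ∈ Submodule.span k {(1 : A)} := by
  induction n generalizing a with
  | zero => rw [K_zero, Submodule.mem_bot] at ha; rw [ha]; exact zero_mem _
  | succ n ih =>
    have h2 : a ∈ K k A 2 := mem_K_succ.2 fun f hf => by
      rw [K_one]
      exact ih (mem_K_succ.1 ha f hf)
    have := sub_eq_zero.1 (hP _ (exists_primitive h2))
    rw [this]
    exact Submodule.smul_mem _ _ (Submodule.mem_span_singleton_self _)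

/-- A common eigenvector of the convolution algebra is a multiple of a group-like element. -/
lemma mem_span_groupLike_of_eigen {v : A} (hv : ∀ f : 𝔸, ∃ c : k, f • v = c • v) :
    v ∈ Submodule.span k {a : A | IsGroupLikeElem k a} := by
  choose c hc using hv
  have h1 : ∀ f : 𝔸, f v = c f * CoalgebraStruct.counit (R := k) v := fun f => by
    have := congrArg (CoalgebraStruct.counit (R := k)) (hc f)
    rwa [ComodLib.counit_smul, LinearMap.map_smul, smul_eq_mul] at this
  by_cases hε : CoalgebraStruct.counit (R := k) v = 0
  · have : v = 0 := by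
      by_contra h0
      obtain ⟨g, hg⟩ := ComodLib.exists_dual_ne (k := k) h0
      exact hg ((h1 (toConv g)).trans (by rw [hε, mul_zero]))
    rw [this]
    exact zero_mem _
  · have hg : IsGroupLikeElem k ((CoalgebraStruct.counit (R := k) v)⁻¹ • v) := by
      refine ⟨by rw [LinearMap.map_smul, smul_eq_mul, inv_mul_cancel₀ hε], ComodLib.ext_slice fun f => ?_⟩
      rw [ComodLib.slice_tmul]
      show (toConv f : 𝔸) • ((CoalgebraStruct.counit (R := k) v)⁻¹ • v) = _
      rw [smul_comm, hc, LinearMap.map_smul,
        show f v = c (toConv f) * CoalgebraStruct.counit (R := k) v from h1 (toConv f),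
        smul_smul, smul_smul, smul_eq_mul]
      congr 1
      field_simp
    have e : v = CoalgebraStruct.counit (R := k) v • ((CoalgebraStruct.counit (R := k) v)⁻¹ • v) := by
      rw [smul_smul, mul_inv_cancel₀ hε, one_smul]
    rw [e]
    exact Submodule.smul_mem _ _ (Submodule.subset_span hg)

end bialg

section hopf

variable [HopfAlgebra k A]

/-- Over an algebraically closed field, cocommutative without primitives means diagonalizable. -/
theorem isDiagonalizable_of_algClosed [IsAlgClosed k] [Coalgebra.IsCocomm k A]
    (hP : ∀ x : A, CoalgebraStruct.comul (R := k) x = x ⊗ₜ[k] (1 : A) + (1 : A) ⊗ₜ[k] x → x = 0) :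
    IsDiagonalizable k A := by
  rw [IsDiagonalizable, eq_top_iff]
  intro a _
  refine (Submodule.span_le.2 ?_) (mem_glSpan a)
  rintro _ ⟨g, u, hg, ⟨n, hu⟩, rfl⟩
  obtain ⟨c, rfl⟩ := Submodule.mem_span_singleton.1 (mem_span_one_of_mem_K hP hu)
  rw [mul_smul_comm, mul_one]
  exact Submodule.smul_mem _ c (Submodule.subset_span hg)

end hopf

section descent

variable {A : Type v} [CommRing A] [HopfAlgebra k A] (k' : Type u) [Field k'] [Algebra k k']

include k' in
lemma primitive_baseChange
    (hP : ∀ x : A, CoalgebraStruct.comul (R := k) x = x ⊗ₜ[k] (1 : A) + (1 : A) ⊗ₜ[k] x → x = 0)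
    (z : k' ⊗[k] A)
    (hz : CoalgebraStruct.comul (R := k') z = z ⊗ₜ[k'] 1 + 1 ⊗ₜ[k'] z) : z = 0 := by
  obtain ⟨w, hw⟩ := (mem_K_baseChange_iff (k' := k')).1 (mem_K_two_of_primitive hz)
  have hspan : z ∈ Submodule.span k' {(1 : k' ⊗[k] A)} := by
    rw [← hw]
    clear hw
    induction w using TensorProduct.induction_on with
    | zero => simp
    | add x y hx hy => rw [map_add]; exact add_mem hx hy
    | tmul c a =>
      obtain ⟨d, hd⟩ := Submodule.mem_span_singleton.1 (mem_span_one_of_mem_K hP a.2)
      rw [LinearMap.lTensor_tmul, Submodule.subtype_apply, ← hd, TensorProduct.tmul_smul,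
        Algebra.TensorProduct.one_def]
      exact Submodule.mem_span_singleton.2 ⟨d • c, by
        rw [TensorProduct.smul_tmul', smul_eq_mul, mul_one, TensorProduct.smul_tmul']⟩
  obtain ⟨c, rfl⟩ := Submodule.mem_span_singleton.1 hspan
  have h0 := counit_primitive hz
  rw [LinearMap.map_smul, Bialgebra.counit_one, smul_eq_mul, mul_one] at h0
  rw [h0, zero_smul]

lemma one_tmul_injective : Function.Injective fun a : A => (1 : k') ⊗ₜ[k] a := by
  obtain ⟨g, hg⟩ := LinearMap.exists_leftInverse_of_injective (Algebra.linearMap k k')
    (LinearMap.ker_eq_bot.2 (algebraMap k k').injective)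
  have h1 : g 1 = 1 := by simpa using LinearMap.congr_fun hg 1
  intro a b h
  have := congrArg (ComodLib.sliceL g) h
  simpa [ComodLib.sliceL_tmul, h1] using this

include k' in
lemma primitive_of_baseChange
    (hP : ∀ z : k' ⊗[k] A, CoalgebraStruct.comul (R := k') z = z ⊗ₜ[k'] 1 + 1 ⊗ₜ[k'] z → z = 0)
    (x : A) (hx : CoalgebraStruct.comul (R := k) x = x ⊗ₜ[k] (1 : A) + (1 : A) ⊗ₜ[k] x) : x = 0 := by
  refine one_tmul_injective k' ((hP _ ?_).trans (TensorProduct.tmul_zero _ _).symm)
  rw [comul_one_tmul, hx, map_add, incSq_tmul, incSq_tmul, Algebra.TensorProduct.one_def]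

lemma incSq_injective : Function.Injective (incSq (k := k) (A := A) (k' := k')) := by
  obtain ⟨g, hg⟩ := LinearMap.exists_leftInverse_of_injective (Algebra.linearMap k k')
    (LinearMap.ker_eq_bot.2 (algebraMap k k').injective)
  have h1 : g 1 = 1 := by simpa using LinearMap.congr_fun hg 1
  have e : ∀ y, (ComodLib.sliceL g ∘ₗ
      (TensorProduct.AlgebraTensorModule.distribBaseChange k k' A A).symm.toLinearMap.restrictScalars k)
        (incSq (k' := k') y) = y := by
    intro y
    induction y using TensorProduct.induction_on with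
    | zero => simp
    | add x y hx hy => simp only [map_add, hx, hy]
    | tmul a b =>
      rw [incSq_tmul, LinearMap.comp_apply]
      simp [ComodLib.sliceL_tmul, h1]
  exact Function.LeftInverse.injective e

include k' in
lemma isCocomm_of_baseChange [Coalgebra.IsCocomm k' (k' ⊗[k] A)] : Coalgebra.IsCocomm k A := by
  refine ⟨LinearMap.ext fun a => incSq_injective k' ?_⟩
  show incSq (k' := k') (TensorProduct.comm k A A (CoalgebraStruct.comul (R := k) a)) = incSq (k' := k') _
  have h : ∀ w : A ⊗[k] A, incSq (k' := k') (TensorProduct.comm k A A w) =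
      TensorProduct.comm k' (k' ⊗[k] A) (k' ⊗[k] A) (incSq (k' := k') w) := by
    intro w
    induction w using TensorProduct.induction_on with
    | zero => simp
    | add x y hx hy => simp only [map_add, hx, hy]
    | tmul p q => rw [TensorProduct.comm_tmul, incSq_tmul, incSq_tmul, TensorProduct.comm_tmul]
  rw [h, ← comul_one_tmul, Coalgebra.comm_comul]

/-- Descent of diagonalizability to a separably closed field. -/
theorem isDiagonalizable_of_baseChange [IsSepClosed k] [Coalgebra.IsCocomm k A]
    (hD : IsDiagonalizable k' (k' ⊗[k] A)) : IsDiagonalizable k A := by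
  classical
  rw [IsDiagonalizable, eq_top_iff]
  intro a _
  let S : Submodule k A := (Submodule.span (ComodLib.Dual' k A) ({a} : Set A)).restrictScalars k
  haveI : FiniteDimensional k S := ComodLib.finite_span_singleton A a
  have hS : ∀ f : ComodLib.Dual' k A, ∀ v ∈ S, f • v ∈ S := fun f v hv => Submodule.smul_mem _ f hv
  let T : ComodLib.Dual' k A → Module.End k S := fun f =>
    ((ComodLib.actAlgHom k A A f).domRestrict S).codRestrict S fun v => hS f v v.2
  have hT : ∀ f (v : S), (T f v : A) = f • (v : A) := fun f v => rfl
  have hcomm : ∀ f g, Commute (T f) (T g) := fun f g => LinearMap.ext fun v => Subtype.ext (by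
    rw [Module.End.mul_apply, Module.End.mul_apply, hT, hT, hT, hT, ← mul_smul, ← mul_smul, dual_mul_comm])
  have hsep : ∀ f, (minpoly k (T f)).Separable := by
    intro f
    let q := minpoly k (T f)
    obtain ⟨ι, b, hb⟩ := GLinFinLib.GroupLike.exists_basis hD
    let L : Module.End k' (k' ⊗[k] A) := ComodLib.actAlgHom k' (k' ⊗[k] A) (k' ⊗[k] A) (extF f)
    let B := Module.finBasis k S
    let I : Finset ι := Finset.univ.biUnion fun j => (b.repr ((1 : k') ⊗ₜ[k] (B j : A))).support
    let c : ι → k' := fun i => extF (k' := k') f (b i)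
    let P : Polynomial k' := ∏ t ∈ I.image c, (Polynomial.X - Polynomial.C t)
    have hP : ∀ i ∈ I, Polynomial.aeval L P (b i) = 0 := by
      intro i hi
      have hLi : L (b i) = c i • b i := smul_groupLike (hb i) _
      rw [Module.End.aeval_apply_of_hasEigenvector (μ := c i)
        ⟨Module.End.mem_eigenspace_iff.2 hLi, b.ne_zero i⟩, Polynomial.eval_prod,
        Finset.prod_eq_zero (Finset.mem_image_of_mem c hi) (by simp), zero_smul]
    have hPS : ∀ s : S, Polynomial.aeval L P ((1 : k') ⊗ₜ[k] (s : A)) = 0 := by
      intro s
      have hB : ∀ j, Polynomial.aeval L P ((1 : k') ⊗ₜ[k] (B j : A)) = 0 := by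
        intro j
        rw [← b.linearCombination_repr ((1 : k') ⊗ₜ[k] (B j : A)), Finsupp.linearCombination_apply,
          Finsupp.sum, map_sum]
        refine Finset.sum_eq_zero fun i hi => ?_
        rw [map_smul, hP i (Finset.mem_biUnion.2 ⟨j, Finset.mem_univ j, hi⟩), smul_zero]
      have : ((Polynomial.aeval L P).restrictScalars k ∘ₗ TensorProduct.mk k k' A 1 ∘ₗ S.subtype) = 0 :=
        B.ext fun j => hB j
      exact LinearMap.congr_fun this s
    have hpow : ∀ (i : ℕ) (s : S), (L ^ i) ((1 : k') ⊗ₜ[k] (s : A)) = (1 : k') ⊗ₜ[k] ((T f ^ i) s : A) := by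
      intro i
      induction i with
      | zero => intro s; simp
      | succ i ih =>
        intro s
        rw [pow_succ', Module.End.mul_apply, ih, pow_succ', Module.End.mul_apply, hT]
        exact extF_smul_one_tmul f _
    have hmap : ∀ (r : Polynomial k) (s : S), Polynomial.aeval L (r.map (algebraMap k k')) ((1 : k') ⊗ₜ[k] (s : A)) =
        (1 : k') ⊗ₜ[k] (Polynomial.aeval (T f) r s : A) := by
      intro r s
      induction r using Polynomial.induction_on' with
      | add p p' hp hp' => simp only [Polynomial.map_add, map_add, LinearMap.add_apply, hp, hp', Submodule.coe_add, TensorProduct.tmul_add]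
      | monomial i d =>
        rw [Polynomial.map_monomial, Polynomial.aeval_monomial, Polynomial.aeval_monomial, Module.End.mul_apply,
          Module.End.mul_apply, hpow, Module.algebraMap_end_apply, Module.algebraMap_end_apply, Submodule.coe_smul,
          TensorProduct.tmul_smul, algebraMap_smul]
    have hq0 : Polynomial.aeval (T f) q = 0 := minpoly.aeval k (T f)
    have hqm : q.Monic := minpoly.monic (Algebra.IsIntegral.isIntegral _)
    have hdvd : q.map (algebraMap k k') ∣ P := by
      rw [← Polynomial.modByMonic_eq_zero_iff_dvd (hqm.map _)]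
      let r := P %ₘ q.map (algebraMap k k')
      have hr : ∀ s : S, Polynomial.aeval L r ((1 : k') ⊗ₜ[k] (s : A)) = 0 := by
        intro s
        have h := hPS s
        rw [← Polynomial.modByMonic_add_div P (q.map (algebraMap k k')), map_add, LinearMap.add_apply,
          mul_comm, map_mul, Module.End.mul_apply, hmap, hq0] at h
        simpa using h
      have hdeg : r.natDegree < q.natDegree ∨ r = 0 := by
        by_cases h0 : r = 0
        · exact Or.inr h0
        left
        have h1 := Polynomial.degree_modByMonic_lt P (hqm.map (algebraMap k k'))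
        rw [Polynomial.degree_map] at h1
        exact Polynomial.natDegree_lt_natDegree h0 h1
      rcases hdeg with hdeg | hdeg
      swap
      · exact hdeg
      apply Polynomial.ext
      intro i
      rw [Polynomial.coeff_zero]
      by_contra hne
      obtain ⟨g, hg⟩ := ComodLib.exists_dual_ne (k := k) hne
      let p : Polynomial k := ∑ j ∈ Finset.range q.natDegree, Polynomial.monomial j (g (r.coeff j))
      have hp : Polynomial.aeval (T f) p = 0 := by
        refine LinearMap.ext fun s => Subtype.ext ?_
        have h := congrArg (ComodLib.sliceL g) (hr s)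
        rw [Polynomial.as_sum_range' r q.natDegree hdeg] at h
        simp only [map_sum, LinearMap.sum_apply, map_zero] at h
        simp only [p, map_sum, LinearMap.sum_apply, LinearMap.zero_apply, Submodule.coe_sum, Submodule.coe_zero]
        rw [← h]
        refine Finset.sum_congr rfl fun j _ => ?_
        rw [Polynomial.aeval_monomial, Polynomial.aeval_monomial, Module.End.mul_apply, Module.End.mul_apply,
          hpow, Module.algebraMap_end_apply, Module.algebraMap_end_apply, Submodule.coe_smul,
          TensorProduct.smul_tmul', smul_eq_mul, mul_one, ComodLib.sliceL_tmul]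
      have hple : q ∣ p := minpoly.dvd k (T f) (p := p) hp
      have hp0 : p = 0 := by
        by_contra h0
        have h1 := Polynomial.natDegree_le_of_dvd hple h0
        have h2 : p.natDegree < q.natDegree := by
          have hpos : 0 < q.natDegree := lt_of_le_of_lt (Nat.zero_le _) hdeg
          refine lt_of_le_of_lt (Polynomial.natDegree_sum_le_of_forall_le _ _ (n := q.natDegree - 1) fun j hj => ?_) (by omega)
          exact (Polynomial.natDegree_monomial_le _).trans (by have := Finset.mem_range.1 hj; omega)
        omega
      apply hg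
      have hc := congrArg (fun x : Polynomial k => x.coeff i) hp0
      simp only [p, Polynomial.finset_sum_coeff, Polynomial.coeff_monomial, Finset.sum_ite_eq',
        Finset.mem_range, Polynomial.coeff_zero] at hc
      by_cases hi : i < q.natDegree
      · exact (if_pos hi).symm.trans hc
      · exact absurd (Polynomial.coeff_eq_zero_of_natDegree_lt (lt_of_lt_of_le hdeg (not_lt.1 hi))) hne
    have hPsep : P.Separable := Polynomial.separable_prod_X_sub_C_iff'.2 fun x _ y _ h => h
    exact (Polynomial.separable_map (algebraMap k k')).1 (hPsep.of_dvd hdvd)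
  have hdiag : ∀ f, ⨆ μ, (T f).eigenspace μ = ⊤ := by
    intro f
    let q := minpoly k (T f)
    have hspl : q.Splits := IsSepClosed.splits_of_separable q (hsep f)
    have hnd : q.roots.Nodup := Polynomial.nodup_roots (hsep f)
    have hq : q = Lagrange.nodal q.roots.toFinset id := by
      conv_lhs => rw [hspl.eq_prod_roots_of_monic (minpoly.monic (Algebra.IsIntegral.isIntegral _))]
      rw [Lagrange.nodal, Finset.prod_eq_multiset_prod, Multiset.toFinset_val, hnd.dedup]
      rfl
    rw [eq_top_iff]
    intro v _
    rcases eq_or_ne q.roots.toFinset ∅ with he | he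
    · rw [he, Lagrange.nodal_empty] at hq
      have h := minpoly.aeval k (T f)
      rw [show minpoly k (T f) = q from rfl, hq, map_one] at h
      have hv : v = 0 := LinearMap.congr_fun h v
      rw [hv]
      exact zero_mem _
    have hsum := Lagrange.sum_basis (s := q.roots.toFinset) (v := id) Function.injective_id.injOn
      (Finset.nonempty_iff_ne_empty.2 he)
    have hv : v = ∑ μ ∈ q.roots.toFinset, Polynomial.aeval (T f) (Lagrange.basis q.roots.toFinset id μ) v := by
      rw [← LinearMap.sum_apply, ← map_sum, hsum, map_one, Module.End.one_apply]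
    rw [hv]
    refine Submodule.sum_mem _ fun μ hμ => Submodule.mem_iSup_of_mem μ (Module.End.mem_eigenspace_iff.2 ?_)
    rw [← sub_eq_zero]
    have hz : Polynomial.aeval (T f) ((Polynomial.X - Polynomial.C μ) * Lagrange.basis q.roots.toFinset id μ) = 0 := by
      rw [Lagrange.basis_eq_prod_sub_inv_mul_nodal_div hμ, id, ← mul_assoc, mul_comm (Polynomial.X - Polynomial.C μ),
        mul_assoc, EuclideanDomain.mul_div_cancel' (Polynomial.X_sub_C_ne_zero μ) ?_, ← hq, map_mul]
      · exact (congrArg _ (minpoly.aeval k (T f))).trans (mul_zero _)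
      exact Lagrange.X_sub_C_dvd_nodal (v := id) hμ
    have := LinearMap.congr_fun hz v
    rwa [map_mul, map_sub, Polynomial.aeval_X, Polynomial.aeval_C, Module.End.mul_apply, LinearMap.sub_apply,
      Module.algebraMap_end_apply, LinearMap.zero_apply] at this
  have htop := Module.End.iSup_iInf_maxGenEigenspace_eq_top_of_iSup_maxGenEigenspace_eq_top_of_commute T
    (fun f g _ => hcomm f g) (fun f => eq_top_iff.2 ((hdiag f).ge.trans
      (iSup_mono fun μ => Module.End.eigenspace_le_maxGenEigenspace)))
  have hss : ∀ f, (T f).IsFinitelySemisimple := fun f =>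
    Module.End.isFinitelySemisimple_iff_isSemisimple.2
      (Module.End.isSemisimple_of_squarefree_aeval_eq_zero (hsep f).squarefree (minpoly.aeval k (T f)))
  suffices h : ∀ χ : ComodLib.Dual' k A → k,
      (⨅ f, (T f).maxGenEigenspace (χ f)) ≤ (Submodule.span k {a : A | IsGroupLikeElem k a}).comap S.subtype from
    iSup_le h (htop ▸ Submodule.mem_top (x := (⟨a, Submodule.mem_span_singleton_self a⟩ : S)))
  intro χ e he
  refine mem_span_groupLike_of_eigen fun f => ⟨χ f, ?_⟩
  have h := (Submodule.mem_iInf _).1 he f
  rw [(hss f).maxGenEigenspace_eq_eigenspace, Module.End.mem_eigenspace_iff] at h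
  exact congrArg Subtype.val h

end descent

end Groth.Agent.DiagHopfLib
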