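import Groth.Agent.DiagHopfLib.Coord
import Groth.Prelude.Def_SGA3b
import Mathlib.RingTheory.Localization.Away.Basic
import Mathlib.RingTheory.Flat.Localization

set_option autoImplicit false

/-!
Splittings of groups of multiplicative type and descent of coefficient ideals.
-/

noncomputable section

universe u w

open scoped TensorProduct
open Groth.Agent.TorusField WithConv

namespace Groth.Agent.DiagHopf

variable {R : Type u} [CommRing R] {A : Type u} [CommRing A] [Bialgebra R A] {M : Type w} [AddCommGroup M]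
  {S S' : Type u} [CommRing S] [Algebra R S] [CommRing S'] [Algebra R S']

theorem repr_push (E : Split R A M S) (E' : Split R A M S') (f : S →ₐ[R] S') (h : ∀ a, E'.e a = push f (E.e a))
    (z : S ⊗[R] A) (c : M) : E'.e.repr (push f z) c = f (E.e.repr z c) := by
  classical
  conv_lhs => rw [← E.e.linearCombination_repr z]
  simp only [Finsupp.linearCombination_apply, Finsupp.sum, map_sum, push_smul, ← h, map_smul,
    Module.Basis.repr_self, Finsupp.coe_finsetSum, Finset.sum_apply, Finsupp.smul_single, smul_eq_mul, mul_one,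
    Finsupp.single_apply, Finset.sum_ite_eq']
  split_ifs with hm
  · rfl
  · rw [Finsupp.notMem_support_iff.1 hm, map_zero]

theorem coefIdeal_indep_le {M' : Type w} [AddCommGroup M'] (E : Split R A M S) (E' : Split R A M' S) (X : Set A) :
    coefIdeal E X ≤ coefIdeal E' X := by
  rw [coefIdeal, Ideal.span_le]
  rintro _ ⟨x, hx, m, rfl⟩
  rw [← E'.e.linearCombination_repr ((1 : S) ⊗ₜ[R] x), Finsupp.linearCombination_apply, Finsupp.sum, map_sum,
    Finsupp.finsetSum_apply]
  refine sum_mem fun c _ => ?_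
  rw [map_smul, Finsupp.smul_apply, smul_eq_mul]
  exact Ideal.mul_mem_right _ _ (repr_mem_coefIdeal E' hx c)

theorem coefIdeal_push (E : Split R A M S) (E' : Split R A M S') (f : S →ₐ[R] S')
    (h : ∀ a, E'.e a = push f (E.e a)) (X : Set A) : coefIdeal E' X = (coefIdeal E X).map f := by
  have e : ∀ x c, E'.e.repr ((1 : S') ⊗ₜ[R] x) c = f (E.e.repr ((1 : S) ⊗ₜ[R] x) c) := fun x c => by
    rw [← repr_push E E' f h]; simp [push]
  refine le_antisymm ?_ ?_
  · rw [coefIdeal, Ideal.span_le]
    rintro _ ⟨x, hx, m, rfl⟩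
    rw [e]
    exact Ideal.mem_map_of_mem _ (repr_mem_coefIdeal E hx m)
  · rw [Ideal.map_le_iff_le_comap, coefIdeal, Ideal.span_le]
    rintro _ ⟨x, hx, m, rfl⟩
    show f _ ∈ coefIdeal E' X
    rw [← e]
    exact repr_mem_coefIdeal E' hx m

/-- Coefficient ideals descend along faithfully flat extensions. -/
theorem exists_descent [Module.Flat R S] (E : Split R A M S) (X : Set A) :
    coefIdeal E X = ((coefIdeal E X).comap (algebraMap R S)).map (algebraMap R S) := by
  set I := coefIdeal E X
  set I₀ := I.comap (algebraMap R S)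
  refine le_antisymm ?_ Ideal.map_comap_le
  obtain ⟨E₁, hE₁⟩ := exists_split_push E (Algebra.TensorProduct.includeLeft : S →ₐ[R] S ⊗[R] S)
  obtain ⟨E₂, hE₂⟩ := exists_split_push E (Algebra.TensorProduct.includeRight : S →ₐ[R] S ⊗[R] S)
  intro y hy
  have hy' : (Algebra.TensorProduct.includeLeft : S →ₐ[R] S ⊗[R] S) y ∈
      I.map (Algebra.TensorProduct.includeRight : S →ₐ[R] S ⊗[R] S) := by
    rw [← coefIdeal_push E E₂ _ hE₂]
    apply coefIdeal_indep_le E₁ E₂ X
    rw [coefIdeal_push E E₁ _ hE₁]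
    exact Ideal.mem_map_of_mem _ hy
  let q : S ⊗[R] S →ₐ[R] S ⊗[R] (S ⧸ I) := Algebra.TensorProduct.map (AlgHom.id R S) (Ideal.Quotient.mkₐ R I)
  have hle : I.map (Algebra.TensorProduct.includeRight : S →ₐ[R] S ⊗[R] S) ≤ RingHom.ker q := by
    rw [Ideal.map_le_iff_le_comap]
    intro z hz
    show q (1 ⊗ₜ z) = 0
    simp [q, Ideal.Quotient.eq_zero_iff_mem.2 hz]
  have h0 : q (y ⊗ₜ 1) = 0 := hle hy'
  have hex : Function.Exact (I₀.subtype) (Algebra.linearMap R (S ⧸ I)) := by
    rw [LinearMap.exact_iff]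
    ext r
    rw [LinearMap.mem_ker, Submodule.range_subtype, Algebra.linearMap_apply,
      IsScalarTower.algebraMap_apply R S (S ⧸ I), Ideal.Quotient.algebraMap_eq, Ideal.Quotient.eq_zero_iff_mem]
    rfl
  have hflat := Module.Flat.lTensor_exact S hex
  have h1 : (Algebra.linearMap R (S ⧸ I)).lTensor S (y ⊗ₜ[R] (1 : R)) = 0 := by
    rw [LinearMap.lTensor_tmul, Algebra.linearMap_apply, map_one]
    rw [← h0]; simp [q]
  obtain ⟨t, ht⟩ := (hflat _).1 h1
  have key : ∀ t : S ⊗[R] I₀, TensorProduct.rid R S (I₀.subtype.lTensor S t) ∈ I₀.map (algebraMap R S) := by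
    intro t
    induction t using TensorProduct.induction_on with
    | zero => simp
    | add a b ha hb => simp only [map_add]; exact add_mem ha hb
    | tmul s i =>
      simp only [LinearMap.lTensor_tmul, TensorProduct.rid_tmul, Submodule.subtype_apply, Algebra.smul_def]
      exact Ideal.mul_mem_right _ _ (Ideal.mem_map_of_mem _ i.2)
  have := key t
  rwa [ht, TensorProduct.rid_tmul, one_smul] at this

theorem isGL_of_groupLike {x : S ⊗[R] A}
    (h₁ : CoalgebraStruct.comul (R := S) x = x ⊗ₜ[S] x) (h₂ : CoalgebraStruct.counit (R := S) x = 1) :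
    IsGL R A S x := by
  let c : (S ⊗[R] A) ⊗[S] (S ⊗[R] A) →ₐ[S] S ⊗[R] (A ⊗[R] A) :=
    Algebra.TensorProduct.lift (J₁ R A S) (J₂ R A S) fun _ _ => Commute.all _ _
  have e : c.comp (Bialgebra.comulAlgHom S (S ⊗[R] A)) = D R A S := by
    refine Algebra.TensorProduct.ext (Subsingleton.elim _ _) (AlgHom.ext fun a => ?_)
    simp only [AlgHom.comp_apply, AlgHom.coe_restrictScalars', Algebra.TensorProduct.includeRight_apply,
      Bialgebra.comulAlgHom_apply, TensorProduct.comul_tmul, CommSemiring.comul_apply, D,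
      Algebra.TensorProduct.map_tmul, AlgHom.id_apply]
    generalize CoalgebraStruct.comul (R := R) a = z
    induction z using TensorProduct.induction_on with
    | zero => simp
    | add p q hp hq => simp only [TensorProduct.tmul_add, map_add, hp, hq]
    | tmul p q =>
      simp [c, J₁, J₂, TensorProduct.AlgebraTensorModule.tensorTensorTensorComm_tmul,
        Algebra.TensorProduct.tmul_mul_tmul]
  have e' : (Bialgebra.counitAlgHom S (S ⊗[R] A)) = ev1 R A S := by
    refine Algebra.TensorProduct.ext (Subsingleton.elim _ _) (AlgHom.ext fun a => ?_)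
    simp [ev1, TensorProduct.counit_tmul, Algebra.smul_def]
  refine ⟨?_, ?_⟩
  · rw [← e, AlgHom.comp_apply, Bialgebra.comulAlgHom_apply, h₁, Algebra.TensorProduct.lift_tmul]
  · rw [← e']; exact h₂

theorem exists_split_of_bialgEquiv {N : Type w} [CommGroup N] (e : (S ⊗[R] A) ≃ₐc[S] MonoidAlgebra S N) :
    Nonempty (Split R A (Additive N) S) := by
  let b := ((MonoidAlgebra.basis N S).map e.toAlgEquiv.symm.toLinearEquiv).reindex Additive.ofMul
  have hb : ∀ a : Additive N, b a = e.symm (MonoidAlgebra.single a.toMul 1) := fun a => by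
    simp [b]
    rfl
  refine ⟨⟨b, ?_, fun a c => ?_, fun a => ?_⟩⟩
  · rw [hb, toMul_zero, ← MonoidAlgebra.one_def, map_one]
  · rw [hb, hb, hb, ← map_mul, MonoidAlgebra.single_mul_single, one_mul]
    rfl
  · rw [hb]
    refine isGL_of_groupLike ?_ ?_
    · have h := CoalgHomClass.map_comp_comul_apply (R := S) e.symm (MonoidAlgebra.single a.toMul (1 : S))
      rw [← h]
      simp
    · rw [CoalgHomClass.counit_comp_apply]
      simp

theorem exists_split_transfer {R' : Type u} [CommRing R'] [Algebra R R'] [Algebra R' S] [IsScalarTower R R' S]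
    (E : Split R' (R' ⊗[R] A) M S) : Nonempty (Split R A M S) := by
  let ψ : S ⊗[R'] (R' ⊗[R] A) ≃ₐ[S] S ⊗[R] A := Algebra.TensorProduct.cancelBaseChange R R' S S A
  let i₁ : R' ⊗[R] A →ₐ[R'] S ⊗[R] (A ⊗[R] A) :=
    ((J₁ R A S).restrictScalars R').comp ((ψ.toAlgHom.restrictScalars R').comp Algebra.TensorProduct.includeRight)
  let i₂ : R' ⊗[R] A →ₐ[R'] S ⊗[R] (A ⊗[R] A) :=
    ((J₂ R A S).restrictScalars R').comp ((ψ.toAlgHom.restrictScalars R').comp Algebra.TensorProduct.includeRight)
  let Ψ : S ⊗[R'] ((R' ⊗[R] A) ⊗[R'] (R' ⊗[R] A)) →ₐ[S] S ⊗[R] (A ⊗[R] A) :=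
    Algebra.TensorProduct.lift (Algebra.ofId S _)
      (Algebra.TensorProduct.lift i₁ i₂ fun _ _ => Commute.all _ _) fun _ _ => Commute.all _ _
  have hψ : ∀ a : A, ψ (1 ⊗ₜ[R'] (1 ⊗ₜ[R] a)) = 1 ⊗ₜ[R] a := fun a => by simp [ψ]
  have h1 : Ψ.comp (J₁ R' (R' ⊗[R] A) S) = (J₁ R A S).comp ψ.toAlgHom := by
    refine Algebra.TensorProduct.ext (Subsingleton.elim _ _)
      (Algebra.TensorProduct.ext (Subsingleton.elim _ _) (AlgHom.ext fun a => ?_))
    simp [Ψ, J₁, i₁, i₂, hψ, ← Algebra.TensorProduct.one_def]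
  have h2 : Ψ.comp (J₂ R' (R' ⊗[R] A) S) = (J₂ R A S).comp ψ.toAlgHom := by
    refine Algebra.TensorProduct.ext (Subsingleton.elim _ _)
      (Algebra.TensorProduct.ext (Subsingleton.elim _ _) (AlgHom.ext fun a => ?_))
    simp [Ψ, J₂, i₁, i₂, hψ, ← Algebra.TensorProduct.one_def]
  have h3 : Ψ.comp (D R' (R' ⊗[R] A) S) = (D R A S).comp ψ.toAlgHom := by
    refine Algebra.TensorProduct.ext (Subsingleton.elim _ _)
      (Algebra.TensorProduct.ext (Subsingleton.elim _ _) (AlgHom.ext fun a => ?_))
    simp only [AlgHom.comp_apply, AlgHom.coe_restrictScalars', Algebra.TensorProduct.includeRight_apply,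
      AlgEquiv.coe_toAlgHom, hψ, D, Algebra.TensorProduct.map_tmul, AlgHom.id_apply, Bialgebra.comulAlgHom_apply,
      TensorProduct.comul_tmul, CommSemiring.comul_apply]
    generalize CoalgebraStruct.comul (R := R) a = z
    induction z using TensorProduct.induction_on with
    | zero => simp
    | add p q hp hq => simp only [TensorProduct.tmul_add, map_add, hp, hq]
    | tmul p q =>
      simp [Ψ, i₁, i₂, hψ, J₁, J₂, TensorProduct.AlgebraTensorModule.tensorTensorTensorComm_tmul,
        Algebra.TensorProduct.tmul_mul_tmul]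
  have h4 : ev1 R' (R' ⊗[R] A) S = (ev1 R A S).comp ψ.toAlgHom := by
    refine Algebra.TensorProduct.ext (Subsingleton.elim _ _)
      (Algebra.TensorProduct.ext (Subsingleton.elim _ _) (AlgHom.ext fun a => ?_))
    simp [ev1, hψ, TensorProduct.counit_tmul, Algebra.smul_def, ← IsScalarTower.algebraMap_apply]
  refine ⟨⟨E.e.map ψ.toLinearEquiv, ?_, fun a b => ?_, fun a => ⟨?_, ?_⟩⟩⟩
  · simp [E.e_zero]
  · simp [E.e_add]
  · have h := congrArg Ψ (E.gl a).1
    rw [map_mul, ← AlgHom.comp_apply, ← AlgHom.comp_apply, ← AlgHom.comp_apply, h1, h2, h3] at h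
    exact h
  · have h := (E.gl a).2
    rw [h4] at h
    exact h

/-- Local splittings of a group of multiplicative type. -/
theorem exists_cover_split {A : Type u} [CommRing A] [HopfAlgebra R A] (h : SGA3b.IsMultType R A) :
    ∃ s : Set R, Ideal.span s = ⊤ ∧ ∀ f ∈ s, ∃ (S : Type u) (_ : CommRing S) (_ : Algebra R S)
      (_ : Algebra (Localization.Away f) S) (_ : IsScalarTower R (Localization.Away f) S) (N : Type u)
      (_ : CommGroup N), Module.FaithfullyFlat (Localization.Away f) S ∧ Nonempty (Split R A (Additive N) S) := by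
  obtain ⟨s, hs, H⟩ := h
  refine ⟨s, hs, fun f hf => ?_⟩
  obtain ⟨S, _, _, hff, N, _, ⟨e⟩⟩ := H f hf
  letI : Algebra R S := ((algebraMap (Localization.Away f) S).comp (algebraMap R (Localization.Away f))).toAlgebra
  haveI : IsScalarTower R (Localization.Away f) S := IsScalarTower.of_algebraMap_eq fun _ => rfl
  obtain ⟨E⟩ := exists_split_of_bialgEquiv e
  exact ⟨S, inferInstance, inferInstance, inferInstance, inferInstance, N, inferInstance, hff,
    exists_split_transfer E⟩

theorem exists_split_of_isLocalRing {A : Type u} [CommRing A] [HopfAlgebra R A] [IsLocalRing R]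
    (h : SGA3b.IsMultType R A) :
    ∃ (S : Type u) (_ : CommRing S) (_ : Algebra R S) (N : Type u) (_ : CommGroup N),
      Module.FaithfullyFlat R S ∧ Nonempty (Split R A (Additive N) S) := by
  obtain ⟨s, hs, H⟩ := exists_cover_split h
  obtain ⟨f, hf, hfu⟩ : ∃ f ∈ s, IsUnit f := by
    by_contra hne
    push Not at hne
    have : Ideal.span s ≤ IsLocalRing.maximalIdeal R := Ideal.span_le.2 fun f hf => hne f hf
    rw [hs, top_le_iff] at this
    exact (IsLocalRing.maximalIdeal.isMaximal R).ne_top this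
  obtain ⟨S, _, _, _, _, N, _, hff, hE⟩ := H f hf
  haveI : Module.FaithfullyFlat R (Localization.Away f) := by
    let e := IsLocalization.atUnit R (Localization.Away f) f hfu
    exact Module.FaithfullyFlat.of_linearEquiv R R e.toLinearEquiv.symm
  exact ⟨S, inferInstance, inferInstance, N, inferInstance,
    Module.FaithfullyFlat.trans R (Localization.Away f) S, hE⟩

/-- Separation by the local splittings. -/
theorem eq_zero_of_cover {A : Type u} [CommRing A] [HopfAlgebra R A] {s : Set R} (hs : Ideal.span s = ⊤)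
    (x : A) (H : ∀ f ∈ s, ∃ (S : Type u) (_ : CommRing S) (_ : Algebra R S) (_ : Algebra (Localization.Away f) S)
      (_ : IsScalarTower R (Localization.Away f) S), Module.FaithfullyFlat (Localization.Away f) S ∧
        (1 : S) ⊗ₜ[R] x = 0) : x = 0 := by
  refine Module.eq_of_isLocalized_span s hs (fun r : s => Localization.Away r.1 ⊗[R] A)
    (fun r : s => TensorProduct.mk R (Localization.Away r.1) A 1) x 0 fun r => ?_
  obtain ⟨S, _, _, _, _, hff, h0⟩ := H r.1 r.2
  rw [map_zero]
  have hinj := Module.FaithfullyFlat.tensorProduct_mk_injective (A := Localization.Away r.1) (B := S)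
    (Localization.Away r.1 ⊗[R] A)
  apply hinj
  simp only [TensorProduct.mk_apply, TensorProduct.tmul_zero]
  apply (TensorProduct.AlgebraTensorModule.cancelBaseChange R (Localization.Away r.1) S S A).injective
  simp [h0]

end Groth.Agent.DiagHopf
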