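import Groth.Agent.DiagHopfLib.Groups
import Groth.Agent.DiagHopfLib.Descent
import Mathlib.RingTheory.Idempotents

set_option autoImplicit false

/-!
Homomorphisms of bialgebras with scalars extended, acting on group-like elements.
-/

noncomputable section

universe u w

open scoped TensorProduct
open Groth.Agent.TorusField

namespace Groth.Agent.DiagHopf

variable {R : Type u} [CommRing R] {A B : Type u} [CommRing A] [Bialgebra R A] [CommRing B] [Bialgebra R B]
  {M : Type w} [AddCommGroup M] {S S' : Type u} [CommRing S] [Algebra R S] [CommRing S'] [Algebra R S']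

/-- Group-like elements congruent modulo a nil kernel are equal. -/
theorem gl_eq_of_push_eq (E : Split R A M S) (μ : S →ₐ[R] S') (hμ : ∀ x, μ x = 0 → IsNilpotent x)
    {x y : S ⊗[R] A} (hx : IsGL R A S x) (hy : IsGL R A S y) (h : push μ x = push μ y) : x = y := by
  classical
  obtain ⟨E', hE'⟩ := exists_split_push E μ
  refine E.e.ext_elem fun c => ?_
  have hi : ∀ {z}, IsGL R A S z → IsIdempotentElem (E.e.repr z c) := fun {z} hz => by
    have := E.repr_idem hz c c
    rwa [if_pos rfl] at this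
  refine eq_of_isNilpotent_sub_of_isIdempotentElem (hi hx) (hi hy) (hμ _ ?_)
  rw [map_sub, ← repr_push E E' μ hE', ← repr_push E E' μ hE', h, sub_self]

/-- The pair of maps into the double tensor product. -/
def pairMap (ψ : B →ₐ[R] S ⊗[R] A) : B ⊗[R] B →ₐ[R] S ⊗[R] (A ⊗[R] A) :=
  letI : CommRing (S ⊗[R] (A ⊗[R] A)) := Algebra.TensorProduct.instCommRing
  Algebra.TensorProduct.lift (((J₁ R A S).restrictScalars R).comp ψ) (((J₂ R A S).restrictScalars R).comp ψ)
    fun _ _ => Commute.all _ _

theorem pairMap_tmul (ψ : B →ₐ[R] S ⊗[R] A) (p q : B) :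
    pairMap ψ (p ⊗ₜ q) = J₁ R A S (ψ p) * J₂ R A S (ψ q) := by
  simp [pairMap]

/-- A homomorphism respects comultiplication and counit. -/
def RespD (ψ : B →ₐ[R] S ⊗[R] A) : Prop :=
  (∀ b, D R A S (ψ b) = pairMap ψ (Bialgebra.comulAlgHom R B b)) ∧
    ∀ b, ev1 R A S (ψ b) = algebraMap R S (Coalgebra.counit b)

/-- Extension of scalars of a homomorphism. -/
def extHom (ψ : B →ₐ[R] S ⊗[R] A) : S ⊗[R] B →ₐ[S] S ⊗[R] A :=
  Algebra.TensorProduct.lift (Algebra.ofId S _) ψ fun _ _ => Commute.all _ _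

theorem extHom_tmul (ψ : B →ₐ[R] S ⊗[R] A) (s : S) (b : B) : extHom ψ (s ⊗ₜ b) = s • ψ b := by
  simp [extHom, Algebra.smul_def]

theorem RespD.isGL {ψ : B →ₐ[R] S ⊗[R] A} (hψ : RespD ψ) {x : S ⊗[R] B} (hx : IsGL R B S x) :
    IsGL R A S (extHom ψ x) := by
  letI hT : CommRing (S ⊗[R] (A ⊗[R] A)) := Algebra.TensorProduct.instCommRing
  let Φ : S ⊗[R] (B ⊗[R] B) →ₐ[S] S ⊗[R] (A ⊗[R] A) :=
    Algebra.TensorProduct.lift (Algebra.ofId S _) (pairMap ψ) fun _ _ => hT.mul_comm _ _
  have h1 : Φ.comp (J₁ R B S) = (J₁ R A S).comp (extHom ψ) :=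
    Algebra.TensorProduct.ext (Subsingleton.elim _ _) (AlgHom.ext fun a => by
      simp [Φ, J₁, extHom_tmul, pairMap_tmul, ← Algebra.TensorProduct.one_def])
  have h2 : Φ.comp (J₂ R B S) = (J₂ R A S).comp (extHom ψ) :=
    Algebra.TensorProduct.ext (Subsingleton.elim _ _) (AlgHom.ext fun a => by
      simp [Φ, J₂, extHom_tmul, pairMap_tmul, ← Algebra.TensorProduct.one_def])
  have h3 : Φ.comp (D R B S) = (D R A S).comp (extHom ψ) :=
    Algebra.TensorProduct.ext (Subsingleton.elim _ _) (AlgHom.ext fun a => by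
      have := hψ.1 a
      simp [D, Φ, extHom_tmul, ← Algebra.TensorProduct.one_def] at this ⊢
      exact this.symm)
  have h4 : (ev1 R A S).comp (extHom ψ) = ev1 R B S :=
    Algebra.TensorProduct.ext (Subsingleton.elim _ _) (AlgHom.ext fun a => by
      have := hψ.2 a
      simp [ev1, extHom_tmul, Algebra.smul_def] at this ⊢
      exact this)
  refine ⟨?_, ?_⟩
  · rw [← AlgHom.comp_apply (D R A S), ← h3, AlgHom.comp_apply, hx.1, map_mul, ← AlgHom.comp_apply Φ,
      ← AlgHom.comp_apply Φ, h1, h2, AlgHom.comp_apply, AlgHom.comp_apply]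
  · rw [← AlgHom.comp_apply, h4, hx.2]

theorem RespD.push {ψ : B →ₐ[R] S ⊗[R] A} (hψ : RespD ψ) (f : S →ₐ[R] S') :
    RespD ((TorusField.push f).comp ψ) := by
  refine ⟨fun b => ?_, fun b => ?_⟩
  · rw [AlgHom.comp_apply, ← push_D, hψ.1]
    refine DFunLike.congr_fun (?_ : (push₂ f).comp (pairMap ψ) = _) _
    refine Algebra.TensorProduct.ext' fun p q => ?_
    simp [pairMap_tmul, map_mul, push_J₁, push_J₂]
  · rw [AlgHom.comp_apply, ← push_ev1, hψ.2, AlgHom.commutes]

theorem push_extHom (ψ : B →ₐ[R] S ⊗[R] A) (f : S →ₐ[R] S') (x : S ⊗[R] B) :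
    push f (extHom ψ x) = extHom ((push f).comp ψ) (push f x) := by
  induction x using TensorProduct.induction_on with
  | zero => simp
  | add p q hp hq => simp only [map_add, hp, hq]
  | tmul s b => rw [extHom_tmul, push_smul, show push f (s ⊗ₜ[R] b) = f s ⊗ₜ b from rfl, extHom_tmul]; rfl

/-- A bialgebra homomorphism after base change respects the structure. -/
theorem respD_of_bialgHom (φ : S ⊗[R] B →ₐc[S] S ⊗[R] A) :
    RespD (((φ : S ⊗[R] B →ₐ[S] S ⊗[R] A).restrictScalars R).comp Algebra.TensorProduct.includeRight) := by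
  set ψ := ((φ : S ⊗[R] B →ₐ[S] S ⊗[R] A).restrictScalars R).comp Algebra.TensorProduct.includeRight
  letI hT : CommRing (S ⊗[R] (A ⊗[R] A)) := Algebra.TensorProduct.instCommRing
  let c : (S ⊗[R] A) ⊗[S] (S ⊗[R] A) →ₐ[S] S ⊗[R] (A ⊗[R] A) :=
    Algebra.TensorProduct.lift (J₁ R A S) (J₂ R A S) fun _ _ => hT.mul_comm _ _
  have e : ∀ x, c (CoalgebraStruct.comul (R := S) x) = D R A S x := by
    intro x
    refine DFunLike.congr_fun (?_ : c.comp (Bialgebra.comulAlgHom S _) = D R A S) x
    refine Algebra.TensorProduct.ext (Subsingleton.elim _ _) (AlgHom.ext fun a => ?_)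
    simp only [AlgHom.comp_apply, AlgHom.coe_restrictScalars', Algebra.TensorProduct.includeRight_apply,
      Bialgebra.comulAlgHom_apply, TensorProduct.comul_tmul, CommSemiring.comul_apply, D,
      Algebra.TensorProduct.map_tmul, AlgHom.id_apply]
    generalize CoalgebraStruct.comul (R := R) a = z
    induction z using TensorProduct.induction_on with
    | zero => simp
    | add p q hp hq => simp only [TensorProduct.tmul_add, map_add, hp, hq]
    | tmul p q =>
      simp [c, J₁, J₂, TensorProduct.AlgebraTensorModule.tensorTensorTensorComm_tmul,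
        Algebra.TensorProduct.tmul_mul_tmul]
  have e' : ∀ x, Coalgebra.counit (R := S) x = ev1 R A S x := by
    intro x
    refine DFunLike.congr_fun (?_ : Bialgebra.counitAlgHom S _ = ev1 R A S) x
    refine Algebra.TensorProduct.ext (Subsingleton.elim _ _) (AlgHom.ext fun a => ?_)
    simp [ev1, TensorProduct.counit_tmul, Algebra.smul_def]
  refine ⟨fun b => ?_, fun b => ?_⟩
  · rw [← e]
    show c (CoalgebraStruct.comul (R := S) (φ (1 ⊗ₜ b))) = _
    rw [← CoalgHomClass.map_comp_comul_apply φ, TensorProduct.comul_tmul, CommSemiring.comul_apply,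
      Bialgebra.comulAlgHom_apply]
    generalize CoalgebraStruct.comul (R := R) b = z
    induction z using TensorProduct.induction_on with
    | zero => simp
    | add p q hp hq => simp only [TensorProduct.tmul_add, map_add, hp, hq]
    | tmul p q =>
      simp [c, ψ, pairMap_tmul, TensorProduct.AlgebraTensorModule.tensorTensorTensorComm_tmul]
  · rw [← e']
    show Coalgebra.counit (φ (1 ⊗ₜ b)) = _
    rw [CoalgHomClass.counit_comp_apply, TensorProduct.counit_tmul]
    simp [Algebra.smul_def]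

end Groth.Agent.DiagHopf
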