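import Groth.Agent.DiagHopfLib.Family
import Groth.Agent.DiagHopfLib.HomExt
import Mathlib.RingTheory.HopfAlgebra.Quotient
import Mathlib.RingTheory.Finiteness.Descent
import Mathlib.GroupTheory.FiniteAbelian.Basic
import Mathlib.RingTheory.Bialgebra.TensorProduct

set_option autoImplicit false

/-!
The torsion subgroups of groups of multiplicative type.
-/

noncomputable section

universe u w

open scoped TensorProduct
open Groth.Agent.TorusField WithConv

namespace Groth.Agent.DiagHopf

variable {R : Type u} [CommRing R] {A : Type u} [CommRing A] [HopfAlgebra R A]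
  {S : Type u} [CommRing S] [Algebra R S]

theorem map_powConv_gl (n : ℕ) {x : S ⊗[R] A} (hx : IsGL R A S x) :
    Algebra.TensorProduct.map (AlgHom.id S S) (SGA3b.powConv R A n) x = x ^ n := by
  induction n with
  | zero =>
    have e : Algebra.TensorProduct.map (AlgHom.id S S) (SGA3b.powConv R A 0) =
        (Algebra.ofId S (S ⊗[R] A)).comp (ev1 R A S) :=
      Algebra.TensorProduct.ext (Subsingleton.elim _ _) (AlgHom.ext fun a => by
        simp [SGA3b.powConv, AlgHom.convOne_def, ev1, Algebra.algebraMap_eq_smul_one, TensorProduct.smul_tmul',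
          ← Algebra.TensorProduct.one_def])
    rw [e, AlgHom.comp_apply, hx.2, map_one, pow_zero]
  | succ n ih =>
    let Ψ : S ⊗[R] (A ⊗[R] A) →ₐ[S] S ⊗[R] A := Algebra.TensorProduct.map (AlgHom.id S S)
      (Algebra.TensorProduct.lift (SGA3b.powConv R A n) (AlgHom.id R A) fun _ _ => Commute.all _ _)
    have e : Algebra.TensorProduct.map (AlgHom.id S S) (SGA3b.powConv R A (n + 1)) = Ψ.comp (D R A S) :=
      Algebra.TensorProduct.ext (Subsingleton.elim _ _) (AlgHom.ext fun a => by
        simp only [AlgHom.comp_apply, AlgHom.coe_restrictScalars', Algebra.TensorProduct.includeRight_apply, D, Ψ,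
          Algebra.TensorProduct.map_tmul, AlgHom.id_apply, SGA3b.powConv, pow_succ, Bialgebra.comulAlgHom_apply]
        rw [AlgHom.convMul_apply])
    have h1 : Ψ.comp (J₁ R A S) = Algebra.TensorProduct.map (AlgHom.id S S) (SGA3b.powConv R A n) :=
      Algebra.TensorProduct.ext (Subsingleton.elim _ _) (AlgHom.ext fun a => by simp [Ψ, J₁])
    have h2 : Ψ.comp (J₂ R A S) = AlgHom.id S _ :=
      Algebra.TensorProduct.ext (Subsingleton.elim _ _) (AlgHom.ext fun a => by simp [Ψ, J₂])
    rw [e, AlgHom.comp_apply, hx.1, map_mul, ← AlgHom.comp_apply, h1, ← AlgHom.comp_apply, h2, ih, pow_succ]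
    rfl

/-- The base change of a quotient map of bialgebras. -/
def quotExt (S : Type u) [CommRing S] [Algebra R S] (J : Ideal A) : S ⊗[R] A →ₐ[S] S ⊗[R] (A ⧸ J) :=
  Algebra.TensorProduct.map (AlgHom.id S S) (Ideal.Quotient.mkₐ R J)

theorem quotExt_surjective (J : Ideal A) : Function.Surjective (quotExt (R := R) S J) := fun z => by
  induction z using TensorProduct.induction_on with
  | zero => exact ⟨0, map_zero _⟩
  | add p q hp hq =>
    obtain ⟨p', rfl⟩ := hp
    obtain ⟨q', rfl⟩ := hq
    exact ⟨p' + q', map_add _ _ _⟩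
  | tmul s b =>
    obtain ⟨a, rfl⟩ := Ideal.Quotient.mk_surjective b
    exact ⟨s ⊗ₜ a, rfl⟩

theorem isGL_quotExt (J : Ideal A) [J.IsHopfIdeal R] {x : S ⊗[R] A} (hx : IsGL R A S x) :
    IsGL R (A ⧸ J) S (quotExt S J x) := by
  let ψ : A →ₐ[R] S ⊗[R] (A ⧸ J) :=
    Algebra.TensorProduct.includeRight.comp (Ideal.Quotient.mkₐ R J)
  have hψ : RespD ψ := by
    refine ⟨fun a => ?_, fun a => ?_⟩
    · simp only [ψ, AlgHom.comp_apply, Algebra.TensorProduct.includeRight_apply, D,
        Algebra.TensorProduct.map_tmul, AlgHom.id_apply, Bialgebra.comulAlgHom_apply, Ideal.Quotient.mkₐ_eq_mk,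
        Bialgebra.Quotient.comul_mk]
      generalize CoalgebraStruct.comul (R := R) a = z
      induction z using TensorProduct.induction_on with
      | zero => simp
      | add p q hp hq => simp only [TensorProduct.tmul_add, map_add, hp, hq]
      | tmul p q => simp [pairMap_tmul, J₁, J₂]
    · simp [ψ, ev1]
  have e : extHom ψ = quotExt S J := Algebra.TensorProduct.ext (Subsingleton.elim _ _) (AlgHom.ext fun a => by
    simp [extHom_tmul, quotExt, ψ])
  rw [← e]
  exact hψ.isGL hx

/-- The `n`-torsion subgroup is split by the same algebra. -/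
theorem exists_split_torsion {M : Type u} [AddCommGroup M] (E : Split R A M S) (n : ℕ)
    (J : Ideal A) [J.IsHopfIdeal R] (hJ : J = SGA3b.torsionIdeal R A n) :
    ∃ E' : Split R (A ⧸ J) (M ⧸ (nsmulAddMonoidHom n : M →+ M).range) S,
      ∀ m : M, E'.e (m : M ⧸ (nsmulAddMonoidHom n : M →+ M).range) = quotExt S J (E.e m) := by
  classical
  set H := (nsmulAddMonoidHom n : M →+ M).range
  let Θl : S ⊗[R] A →ₗ[S] MonoidAlgebra S (Multiplicative (M ⧸ H)) :=
    E.e.constr S fun m => MonoidAlgebra.single (Multiplicative.ofAdd (m : M ⧸ H)) (1 : S)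
  have hb : ∀ m, Θl (E.e m) = MonoidAlgebra.single (Multiplicative.ofAdd (m : M ⧸ H)) (1 : S) := fun m =>
    E.e.constr_basis _ _ _
  have h1 : Θl 1 = 1 := by rw [← E.e_zero, hb]; rfl
  have hmul : ∀ x y, Θl (x * y) = Θl x * Θl y := by
    have : ((LinearMap.mul S (S ⊗[R] A)).compr₂ Θl) =
        (LinearMap.mul S (MonoidAlgebra S (Multiplicative (M ⧸ H)))).compl₁₂ Θl Θl :=
      E.e.ext fun a => E.e.ext fun b => by
        simp [← E.e_add, hb, MonoidAlgebra.single_mul_single, ← ofAdd_add]
    exact fun x y => LinearMap.congr_fun₂ this x y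
  let Θ : S ⊗[R] A →ₐ[S] MonoidAlgebra S (Multiplicative (M ⧸ H)) := AlgHom.ofLinearMap Θl h1 hmul
  let P := Algebra.TensorProduct.map (AlgHom.id S S) (SGA3b.powConv R A n)
  have hpow : ∀ m (k : ℕ), E.e (k • m) = E.e m ^ k := fun m k => by
    induction k with
    | zero => rw [zero_nsmul, E.e_zero, pow_zero]
    | succ k ih => rw [succ_nsmul, E.e_add, ih, pow_succ]
  have hΘP : Θ.comp P = (Algebra.ofId S _).comp (ev1 R A S) := AlgHom.toLinearMap_injective <| E.e.ext fun m => by
    show Θ (P (E.e m)) = algebraMap S _ (ev1 R A S (E.e m))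
    rw [map_powConv_gl n (E.gl m), ← hpow, (E.gl m).2, map_one]
    show Θl _ = _
    rw [hb, show ((n • m : M) : M ⧸ H) = 0 from
      (QuotientAddGroup.eq_zero_iff _).2 (AddMonoidHom.mem_range.2 ⟨m, rfl⟩)]
    rfl
  let α : A →ₐ[R] MonoidAlgebra S (Multiplicative (M ⧸ H)) :=
    (Θ.restrictScalars R).comp Algebra.TensorProduct.includeRight
  have hα : ∀ a ∈ J, α a = 0 := by
    subst hJ
    show SGA3b.torsionIdeal R A n ≤ RingHom.ker α
    rw [SGA3b.torsionIdeal, Ideal.map_le_iff_le_comap]
    intro a ha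
    rw [RingHom.mem_ker, Bialgebra.counitAlgHom_apply] at ha
    have h := DFunLike.congr_fun hΘP ((1 : S) ⊗ₜ[R] a)
    show Θ ((1 : S) ⊗ₜ[R] SGA3b.powConv R A n a) = 0
    simpa [P, ev1, ha] using h
  let Θ' : S ⊗[R] (A ⧸ J) →ₐ[S] MonoidAlgebra S (Multiplicative (M ⧸ H)) :=
    Algebra.TensorProduct.lift (Algebra.ofId S _) (Ideal.Quotient.liftₐ J α hα) fun _ _ => Commute.all _ _
  set π := quotExt (R := R) S J
  have hπΘ : Θ'.comp π = Θ :=
    Algebra.TensorProduct.ext (Subsingleton.elim _ _) (AlgHom.ext fun a => by simp [Θ', π, quotExt, α, ← MonoidAlgebra.one_def])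
  have hsurj : Function.Surjective Θ' := by
    intro y
    induction y using MonoidAlgebra.induction_linear with
    | zero => exact ⟨0, map_zero _⟩
    | add p q hp hq =>
      obtain ⟨p', rfl⟩ := hp
      obtain ⟨q', rfl⟩ := hq
      exact ⟨p' + q', map_add _ _ _⟩
    | single q s =>
      obtain ⟨m, hm⟩ := QuotientAddGroup.mk_surjective q.toAdd
      refine ⟨π (s • E.e m), ?_⟩
      rw [← AlgHom.comp_apply, hπΘ, map_smul]
      show s • Θl _ = _
      rw [hb, hm, MonoidAlgebra.smul_single, smul_eq_mul, mul_one]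
      rfl
  have hwd : ∀ a b : M, (a : M ⧸ H) = b → π (E.e a) = π (E.e b) := by
    intro a b hab
    obtain ⟨c, hc⟩ := QuotientAddGroup.eq.1 hab
    have hz : π (E.e (n • c) - 1) = 0 := by
      rw [hpow, ← map_powConv_gl n (E.gl c)]
      have key : ∀ z, π (P z) = algebraMap S _ (ev1 R A S z) := by
        intro z
        refine DFunLike.congr_fun (?_ : π.comp P = (Algebra.ofId S _).comp (ev1 R A S)) z
        refine Algebra.TensorProduct.ext (Subsingleton.elim _ _) (AlgHom.ext fun x => ?_)
        have hx : Ideal.Quotient.mk J (SGA3b.powConv R A n (x - algebraMap R A (Coalgebra.counit x))) = 0 := by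
          rw [Ideal.Quotient.eq_zero_iff_mem, hJ]
          exact Ideal.mem_map_of_mem _ (by simp [RingHom.mem_ker])
        rw [map_sub, map_sub, sub_eq_zero, AlgHom.commutes] at hx
        simp only [π, P, quotExt, AlgHom.comp_apply, AlgHom.coe_restrictScalars', ev1,
          Algebra.TensorProduct.includeRight_apply, Algebra.TensorProduct.map_tmul, AlgHom.id_apply,
          Algebra.TensorProduct.lift_tmul, Ideal.Quotient.mkₐ_eq_mk, hx, map_one, one_mul]
        rw [Ideal.Quotient.mk_algebraMap, Algebra.algebraMap_eq_smul_one, TensorProduct.tmul_smul]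
        simp [← Algebra.TensorProduct.one_def, Algebra.algebraMap_eq_smul_one, TensorProduct.smul_tmul']
      rw [map_sub, key, (E.gl c).2, map_one, map_one, sub_self]
    rw [map_sub, map_one, sub_eq_zero] at hz
    rw [show b = a + n • c by rw [show n • c = -a + b from hc]; abel, E.e_add, map_mul, hz, mul_one]
  have hinj : Function.Injective Θ' := by
    rw [injective_iff_map_eq_zero]
    intro z hz
    obtain ⟨z, rfl⟩ := quotExt_surjective J z
    let Λ : MonoidAlgebra S (Multiplicative (M ⧸ H)) →ₗ[S] S ⊗[R] (A ⧸ J) :=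
      (MonoidAlgebra.basis _ S).constr S fun q => π (E.e q.toAdd.out)
    have e : Λ ∘ₗ Θ.toLinearMap = π.toLinearMap := E.e.ext fun m => by
      show Λ (Θl (E.e m)) = π (E.e m)
      rw [hb, ← MonoidAlgebra.basis_apply, Module.Basis.constr_basis]
      exact hwd _ _ (QuotientAddGroup.out_eq' _)
    show π z = 0
    rw [← AlgHom.toLinearMap_apply π, ← e, LinearMap.comp_apply, AlgHom.toLinearMap_apply, ← hπΘ]
    show Λ (Θ' (π z)) = 0
    rw [hz, map_zero]
  let L := (AlgEquiv.ofBijective Θ' ⟨hinj, hsurj⟩)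
  let b := ((MonoidAlgebra.basis _ S).map L.symm.toLinearEquiv).reindex Multiplicative.toAdd
  have hbq : ∀ m : M, b (m : M ⧸ H) = π (E.e m) := by
    intro m
    rw [Module.Basis.reindex_apply, Module.Basis.map_apply]
    refine L.symm_apply_eq.2 ?_
    show _ = Θ' (π (E.e m))
    rw [← AlgHom.comp_apply, hπΘ]
    show _ = Θl (E.e m)
    rw [hb, MonoidAlgebra.basis_apply]
    rfl
  refine ⟨⟨b, ?_, fun p q => ?_, fun p => ?_⟩, hbq⟩
  · rw [← QuotientAddGroup.mk_zero, hbq, E.e_zero, map_one]
  · obtain ⟨p, rfl⟩ := QuotientAddGroup.mk_surjective p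
    obtain ⟨q, rfl⟩ := QuotientAddGroup.mk_surjective q
    rw [← QuotientAddGroup.mk_add, hbq, hbq, hbq, E.e_add, map_mul]
  · obtain ⟨p, rfl⟩ := QuotientAddGroup.mk_surjective p
    rw [hbq]
    exact isGL_quotExt J (E.gl p)

theorem exists_split_reindex {B : Type u} [CommRing B] [Bialgebra R B] {M M' : Type w} [AddCommGroup M]
    [AddCommGroup M'] (E : Split R B M S) (φ : M ≃+ M') : Nonempty (Split R B M' S) :=
  ⟨⟨E.e.reindex φ.toEquiv, by simp [E.e_zero], fun a b => by simp [E.e_add], fun a => by simpa using E.gl _⟩⟩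

theorem fg_of_split' [Algebra.FiniteType R A] [Nontrivial S] {M : Type w} [AddCommGroup M] (E : Split R A M S) :
    AddMonoid.FG M := by
  classical
  obtain ⟨G, hG⟩ := (Algebra.FiniteType.out : (⊤ : Subalgebra R A).FG)
  let T : Finset M := G.biUnion fun g => (E.e.repr ((1 : S) ⊗ₜ[R] g)).support
  let P : Submodule S (S ⊗[R] A) := Submodule.span S (E.e '' (AddSubmonoid.closure (T : Set M) : Set M))
  have hone : (1 : S ⊗[R] A) ∈ P := Submodule.subset_span ⟨0, zero_mem _, E.e_zero⟩
  have hmul : ∀ x y, x ∈ P → y ∈ P → x * y ∈ P := by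
    intro x y hx hy
    have h := Submodule.mul_mem_mul hx hy
    rw [Submodule.span_mul_span] at h
    refine Submodule.span_mono ?_ h
    rintro z ⟨_, ⟨a, ha, rfl⟩, _, ⟨b, hb, rfl⟩, rfl⟩
    exact ⟨a + b, add_mem ha hb, E.e_add a b⟩
  let B := P.toSubalgebra hone hmul
  have hA : ∀ a : A, (1 : S) ⊗ₜ[R] a ∈ B := by
    intro a
    have ha : a ∈ Algebra.adjoin R (G : Set A) := hG ▸ Algebra.mem_top
    have : a ∈ (B.restrictScalars R).comap (Algebra.TensorProduct.includeRight : A →ₐ[R] S ⊗[R] A) := by
      refine Algebra.adjoin_le (fun g hg => ?_) ha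
      show (1 : S) ⊗ₜ[R] g ∈ P
      rw [← E.e.linearCombination_repr ((1 : S) ⊗ₜ[R] g), Finsupp.linearCombination_apply, Finsupp.sum]
      exact sum_mem fun m hm => P.smul_mem _ (Submodule.subset_span
        ⟨m, AddSubmonoid.subset_closure (Finset.mem_biUnion.2 ⟨g, hg, hm⟩), rfl⟩)
    exact this
  have htop : P = ⊤ := by
    rw [eq_top_iff]
    rintro x -
    induction x using TensorProduct.induction_on with
    | zero => exact zero_mem _
    | add p q hp hq => exact add_mem hp hq
    | tmul r a =>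
      rw [show r ⊗ₜ[R] a = r • ((1 : S) ⊗ₜ[R] a) by rw [TensorProduct.smul_tmul', smul_eq_mul, mul_one]]
      exact P.smul_mem r (hA a)
  refine ⟨⟨T, eq_top_iff.2 fun m _ => ?_⟩⟩
  by_contra hm
  exact E.e.linearIndependent.notMem_span_image hm (htop ▸ Submodule.mem_top : E.e m ∈ P)

/-- The torsion subgroups are finite of multiplicative type. -/
theorem isMultType_torsion [Algebra.FiniteType R A] (h : SGA3b.IsMultType R A) {n : ℕ} (hn : 0 < n)
    (J : Ideal A) [J.IsHopfIdeal R] (hJ : J = SGA3b.torsionIdeal R A n) :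
    SGA3b.IsMultType R (A ⧸ J) ∧ Module.Finite R (A ⧸ J) := by
  classical
  refine ⟨?_, ?_⟩
  · obtain ⟨s, hs, H⟩ := exists_cover_split h
    refine ⟨s, hs, fun f hf => ?_⟩
    obtain ⟨S, _, _, _, _, N, _, hff, ⟨E⟩⟩ := H f hf
    obtain ⟨E', -⟩ := exists_split_torsion E n J hJ
    obtain ⟨E''⟩ := exists_split_reindex E' (AddEquiv.refl _ |>.trans
      (AddEquiv.additiveMultiplicative (Additive N ⧸ (nsmulAddMonoidHom n : Additive N →+ Additive N).range)).symm)
    obtain ⟨E₂⟩ := exists_split_transfer' (R' := Localization.Away f) E''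
    exact ⟨S, inferInstance, inferInstance, hff, _, _, exists_bialgEquiv E₂⟩
  · obtain ⟨ι, _, T, _, _, N, _, hff, hE⟩ := exists_family_split h
    haveI := hff
    have hfin : ∀ i, Module.Finite (T i) (T i ⊗[R] (A ⧸ J)) := by
      intro i
      rcases subsingleton_or_nontrivial (T i) with hT | hT
      · haveI := Module.subsingleton (T i) (T i ⊗[R] (A ⧸ J))
        exact inferInstance
      obtain ⟨E⟩ := hE i
      obtain ⟨E', -⟩ := exists_split_torsion E n J hJ
      haveI := fg_of_split' E
      haveI : AddGroup.FG (Additive (N i)) := AddGroup.fg_iff_addMonoid_fg.2 inferInstance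
      set H := (nsmulAddMonoidHom n : Additive (N i) →+ Additive (N i)).range
      haveI : Finite (Additive (N i) ⧸ H) := by
        refine AddCommGroup.finite_of_fg_isAddTorsion _ fun q => ?_
        obtain ⟨m, rfl⟩ := QuotientAddGroup.mk_surjective q
        exact isOfFinAddOrder_iff_nsmul_eq_zero.2 ⟨n, hn, by
          rw [← QuotientAddGroup.mk_nsmul, QuotientAddGroup.eq_zero_iff]; exact ⟨m, rfl⟩⟩
      exact Module.Finite.of_basis E'.e
    choose g hg using fun i => (hfin i).fg_top
    have : Module.Finite (Π i, T i) ((Π i, T i) ⊗[R] (A ⧸ J)) := by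
      let G : Finset ((Π i, T i) ⊗[R] (A ⧸ J)) :=
        Finset.univ.biUnion fun i => (g i).image ((LinearMap.single R T i).rTensor (A ⧸ J))
      refine ⟨⟨G, eq_top_iff.2 fun z _ => ?_⟩⟩
      have hz : ∀ z : (Π i, T i) ⊗[R] (A ⧸ J), z = ∑ i, (LinearMap.single R T i).rTensor (A ⧸ J)
          ((Pi.evalAlgHom R T i).toLinearMap.rTensor (A ⧸ J) z) := by
        intro z
        induction z using TensorProduct.induction_on with
        | zero => simp
        | add a b ha hb =>
          simp only [map_add, Finset.sum_add_distrib]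
          exact congrArg₂ _ ha hb
        | tmul a b =>
          simp only [LinearMap.rTensor_tmul, ← TensorProduct.sum_tmul]
          exact (congrArg (· ⊗ₜ[R] b) (sum_single_proj T a)).symm
      have hsmul : ∀ i (c : T i) (x : T i ⊗[R] (A ⧸ J)), (LinearMap.single R T i).rTensor (A ⧸ J) (c • x) =
          (Pi.single i c : Π i, T i) • (LinearMap.single R T i).rTensor (A ⧸ J) x := by
        intro i c x
        induction x using TensorProduct.induction_on with
        | zero => simp
        | add a b ha hb => simp only [smul_add, map_add, ha, hb]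
        | tmul a b => simp [TensorProduct.smul_tmul', Pi.single_mul]
      rw [hz z]
      refine sum_mem fun i _ => ?_
      generalize (Pi.evalAlgHom R T i).toLinearMap.rTensor (A ⧸ J) z = w
      have hw : w ∈ Submodule.span (T i) (g i : Set _) := hg i ▸ Submodule.mem_top
      induction hw using Submodule.span_induction with
      | mem x hx =>
        exact Submodule.subset_span (Finset.mem_biUnion.2
          ⟨i, Finset.mem_univ _, Finset.mem_image.2 ⟨x, hx, rfl⟩⟩)
      | zero => rw [map_zero]; exact zero_mem _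
      | add x y _ _ hx hy => rw [map_add]; exact add_mem hx hy
      | smul c x _ hx => rw [hsmul]; exact Submodule.smul_mem _ _ hx
    exact Module.Finite.of_finite_tensorProduct_of_faithfullyFlat (Π i, T i)

end Groth.Agent.DiagHopf
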