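import Mathlib
import Groth.Agent.DiagHopfLib.Torsion

/-!
Monomorphisms from groups of multiplicative type are closed immersions.
-/

set_option autoImplicit false
set_option maxHeartbeats 1000000

noncomputable section

universe u

open scoped TensorProduct
open Groth.Agent.TorusField WithConv

namespace Groth.Agent.DiagHopf

variable {R : Type u} [CommRing R] {A : Type u} [CommRing A] [HopfAlgebra R A] {C : Type u} [CommRing C]
  [HopfAlgebra R C] {M : Type u} [AddCommGroup M] {S : Type u} [CommRing S] [Algebra R S]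

/-- Homomorphisms commute with antipodes. -/
theorem bialgHom_antipode (φ : C →ₐc[R] A) (c : C) :
    φ (HopfAlgebraStruct.antipode (R := R) c) = HopfAlgebraStruct.antipode (R := R) (φ c) := by
  have h1 : toConv ((φ : C →ₗ[R] A) ∘ₗ HopfAlgebraStruct.antipode (R := R)) * toConv (φ : C →ₗ[R] A) = 1 := by
    refine WithConv.ext (LinearMap.ext fun x => ?_)
    rw [LinearMap.convMul_apply]
    have h := congrArg (φ : C →ₗ[R] A) (HopfAlgebra.mul_antipode_rTensor_comul_apply (R := R) x)
    rw [LinearMap.convOne_apply]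
    refine Eq.trans ?_ (h.trans ?_)
    · generalize CoalgebraStruct.comul (R := R) x = z
      induction z using TensorProduct.induction_on with
      | zero => simp
      | add z z' hz hz' => simp only [map_add, hz, hz']
      | tmul p q => simp
    · exact AlgHomClass.commutes φ _
  have h2 : toConv (φ : C →ₗ[R] A) * toConv (HopfAlgebraStruct.antipode (R := R) ∘ₗ (φ : C →ₗ[R] A)) = 1 := by
    refine WithConv.ext (LinearMap.ext fun x => ?_)
    rw [LinearMap.convMul_apply, LinearMap.convOne_apply]
    have h := HopfAlgebra.mul_antipode_lTensor_comul_apply (R := R) (φ x)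
    rw [← CoalgHomClass.map_comp_comul_apply φ, CoalgHomClass.counit_comp_apply] at h
    refine Eq.trans ?_ h
    generalize CoalgebraStruct.comul (R := R) x = z
    induction z using TensorProduct.induction_on with
    | zero => simp
    | add z z' hz hz' => simp only [map_add, hz, hz']
    | tmul p q => simp
  exact LinearMap.congr_fun (congrArg WithConv.ofConv (left_inv_eq_right_inv h1 h2)) c

variable (R A S) in
/-- The antipode after extension of scalars. -/
def antipodeExt : S ⊗[R] A →ₐ[S] S ⊗[R] A :=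
  Algebra.TensorProduct.map (AlgHom.id S S) (HopfAlgebra.antipodeAlgHom R A)

theorem antipodeExt_gl (E : Split R A M S) (m : M) : antipodeExt R A S (E.e m) = E.e (-m) := by
  let Ψ : S ⊗[R] (A ⊗[R] A) →ₐ[S] S ⊗[R] A := Algebra.TensorProduct.map (AlgHom.id S S)
    (Algebra.TensorProduct.lift (AlgHom.id R A) (HopfAlgebra.antipodeAlgHom R A) fun _ _ => Commute.all _ _)
  have h0 : Ψ.comp (D R A S) = (Algebra.ofId S (S ⊗[R] A)).comp (ev1 R A S) :=
    Algebra.TensorProduct.ext (Subsingleton.elim _ _) (AlgHom.ext fun a => by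
      simp only [AlgHom.comp_apply, AlgHom.coe_restrictScalars', Algebra.TensorProduct.includeRight_apply, D, Ψ,
        Algebra.TensorProduct.map_tmul, AlgHom.id_apply, Bialgebra.comulAlgHom_apply]
      have hz : ∀ z : A ⊗[R] A, Algebra.TensorProduct.lift (AlgHom.id R A) (HopfAlgebra.antipodeAlgHom R A)
          (fun _ _ => Commute.all _ _) z =
          LinearMap.mul' R A ((HopfAlgebraStruct.antipode (R := R) (A := A)).lTensor A z) := fun z => by
        induction z using TensorProduct.induction_on with
        | zero => simp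
        | add z z' hz hz' => simp only [map_add, hz, hz']
        | tmul p q => simp
      rw [hz, HopfAlgebra.mul_antipode_lTensor_comul_apply]
      simp [ev1, Algebra.algebraMap_eq_smul_one, TensorProduct.smul_tmul', TensorProduct.tmul_smul,
        Algebra.TensorProduct.one_def])
  have h1 : Ψ.comp (J₁ R A S) = AlgHom.id S _ :=
    Algebra.TensorProduct.ext (Subsingleton.elim _ _) (AlgHom.ext fun a => by simp [Ψ, J₁])
  have h2 : Ψ.comp (J₂ R A S) = antipodeExt R A S :=
    Algebra.TensorProduct.ext (Subsingleton.elim _ _) (AlgHom.ext fun a => by simp [Ψ, J₂, antipodeExt])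
  have h := congrArg Ψ (E.gl m).1
  rw [map_mul, ← AlgHom.comp_apply, ← AlgHom.comp_apply, ← AlgHom.comp_apply, h0, h1, h2, AlgHom.comp_apply,
    (E.gl m).2, map_one, AlgHom.id_apply] at h
  calc antipodeExt R A S (E.e m) = (E.e (-m) * E.e m) * antipodeExt R A S (E.e m) := by
        rw [← E.e_add, neg_add_cancel, E.e_zero, one_mul]
    _ = E.e (-m) := by rw [mul_assoc, ← h, mul_one]

theorem surjective_of_mono_of_split (E : Split R A M S) (φ : C →ₐc[R] A)
    (hmono : ∀ (T : Type u) [CommRing T] [Algebra R T],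
      Function.Injective (fun x : A →ₐ[R] T => x.comp (φ : C →ₐ[R] A))) :
    Function.Surjective (Algebra.TensorProduct.map (AlgHom.id S S) (φ : C →ₐ[R] A)) := by
  classical
  let Φ := Algebra.TensorProduct.map (AlgHom.id S S) (φ : C →ₐ[R] A)
  let P : Subalgebra S (S ⊗[R] A) := Φ.range
  have hΦ : ∀ c : C, (1 : S) ⊗ₜ[R] φ c ∈ P := fun c => ⟨(1 : S) ⊗ₜ[R] c, rfl⟩
  -- isotypic components of the image
  have hcomp : ∀ (c : C) (m : M), E.e.repr ((1 : S) ⊗ₜ[R] φ c) m • E.e m ∈ P := by
    intro c m
    let T : C ⊗[R] C →ₗ[R] S ⊗[R] A := TensorProduct.lift (LinearMap.mk₂ R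
      (fun p q => E.e.repr ((1 : S) ⊗ₜ[R] φ q) m • ((1 : S) ⊗ₜ[R] φ p))
      (fun p p' q => by rw [map_add, TensorProduct.tmul_add, smul_add])
      (fun r p q => by rw [map_smul, TensorProduct.tmul_smul, smul_comm])
      (fun p q q' => by rw [map_add, TensorProduct.tmul_add, map_add, Finsupp.add_apply, add_smul])
      (fun r p q => by
        rw [map_smul, TensorProduct.tmul_smul, ← algebraMap_smul S r ((1 : S) ⊗ₜ[R] φ q), map_smul,
          Finsupp.smul_apply, smul_eq_mul, mul_smul, algebraMap_smul]))
    have hT : ∀ z, T z ∈ P := fun z => by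
      induction z using TensorProduct.induction_on with
      | zero => rw [map_zero]; exact zero_mem _
      | add z z' hz hz' => rw [map_add]; exact add_mem hz hz'
      | tmul p q => exact P.smul_mem (hΦ p) _
    have hTc : T (CoalgebraStruct.comul (R := R) c) = E.e.repr ((1 : S) ⊗ₜ[R] φ c) m • E.e m := by
      refine E.e.ext_elem fun a => ?_
      rw [map_smul, Finsupp.smul_apply, Module.Basis.repr_self, Finsupp.single_apply, smul_eq_mul, mul_ite, mul_one,
        mul_zero]
      have hz : ∀ z : C ⊗[R] C, E.e.repr (T z) a =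
          coord E ((1 : S) ⊗ₜ[R] TensorProduct.map (φ : C →ₗ[R] A) (φ : C →ₗ[R] A) z) (a, m) := fun z => by
        induction z using TensorProduct.induction_on with
        | zero => simp
        | add z z' hz hz' => simp only [map_add, TensorProduct.tmul_add, Finsupp.add_apply, hz, hz']
        | tmul p q =>
          rw [TensorProduct.map_tmul, coord_one_tmul, finsuppTensorFinsupp'_apply_apply]
          simp only [T, TensorProduct.lift.tmul, LinearMap.mk₂_apply, map_smul, Finsupp.smul_apply, smul_eq_mul]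
          exact mul_comm _ _
      rw [hz, CoalgHomClass.map_comp_comul_apply φ c]
      have hD : (1 : S) ⊗ₜ[R] CoalgebraStruct.comul (R := R) (φ c) = D R A S ((1 : S) ⊗ₜ[R] φ c) := by simp [D]
      rw [hD, coord_D]
      by_cases hma : m = a
      · subst hma; simp
      · rw [if_neg fun h => hma h.symm, if_neg hma]
    exact hTc ▸ hT _
  let I : M → Ideal S := fun m => (Subalgebra.toSubmodule P).comap (LinearMap.toSpanSingleton S _ (E.e m))
  have hI : ∀ {m s}, s ∈ I m ↔ s • E.e m ∈ P := fun {m s} => by
    simp only [I, Submodule.mem_comap, LinearMap.toSpanSingleton_apply, Subalgebra.mem_toSubmodule]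
  have hSP : ∀ x ∈ P, antipodeExt R A S x ∈ P := by
    rintro _ ⟨y, rfl⟩
    refine ⟨antipodeExt R C S y, ?_⟩
    induction y using TensorProduct.induction_on with
    | zero => simp
    | add y y' hy hy' => simp only [map_add, hy, hy']
    | tmul r c =>
      simp only [antipodeExt, Algebra.TensorProduct.map_tmul, AlgHom.id_apply, AlgHom.toRingHom_eq_coe, RingHom.coe_coe]
      exact congrArg (fun t => r ⊗ₜ[R] t) (bialgHom_antipode φ c)
  have htop : ∀ m, I m = ⊤ := by
    intro m₀
    by_contra hne
    obtain ⟨𝔪, h𝔪, hle⟩ := Ideal.exists_le_maximal _ hne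
    haveI := h𝔪
    let U : Set M := {m | ∃ c, E.e.repr ((1 : S) ⊗ₜ[R] φ c) m ∉ 𝔪}
    let G := AddSubgroup.closure U
    have hG : ∀ m ∈ G, ¬ I m ≤ 𝔪 := fun m hm => by
      induction hm using AddSubgroup.closure_induction with
      | mem m hm =>
        obtain ⟨c, hc⟩ := hm
        exact fun h => hc (h (hI.2 (hcomp c m)))
      | zero =>
        intro h
        exact h𝔪.ne_top ((Ideal.eq_top_iff_one _).2 (h (hI.2 (by rw [one_smul, E.e_zero]; exact one_mem P))))
      | add a b _ _ ha hb =>
        intro h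
        obtain ⟨s, hs, hs'⟩ := Set.not_subset.1 ha
        obtain ⟨t, ht, ht'⟩ := Set.not_subset.1 hb
        have := h (hI.2 (show (s * t) • E.e (a + b) ∈ P by
          rw [E.e_add, ← smul_mul_smul_comm]; exact mul_mem (hI.1 hs) (hI.1 ht)))
        exact (h𝔪.isPrime.mem_or_mem this).elim hs' ht'
      | neg a _ ha =>
        intro h
        obtain ⟨s, hs, hs'⟩ := Set.not_subset.1 ha
        refine hs' (h (hI.2 ?_))
        have := hSP _ (hI.1 hs)
        rwa [map_smul, antipodeExt_gl] at this
    let T := AddMonoidAlgebra (S ⧸ 𝔪) (M ⧸ G)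
    let mkL : (M →+ M ⧸ G) → S ⊗[R] A →ₗ[S] T := fun χ => E.e.constr S fun m => AddMonoidAlgebra.single (χ m) 1
    have hmk : ∀ χ m, mkL χ (E.e m) = AddMonoidAlgebra.single (χ m) 1 := fun χ m => by simp [mkL]
    have hmul : ∀ χ x y, mkL χ (x * y) = mkL χ x * mkL χ y := fun χ x y => by
      refine LinearMap.congr_fun (f := (mkL χ).comp (LinearMap.mulRight S y))
        (g := (LinearMap.mulRight S (mkL χ y)).comp (mkL χ)) (E.e.ext fun a => ?_) x
      simp only [LinearMap.comp_apply, LinearMap.mulRight_apply]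
      refine LinearMap.congr_fun (f := (mkL χ).comp (LinearMap.mulLeft S (E.e a)))
        (g := (LinearMap.mulLeft S (mkL χ (E.e a))).comp (mkL χ)) (E.e.ext fun b => ?_) y
      simp only [LinearMap.comp_apply, LinearMap.mulLeft_apply, ← E.e_add, hmk, map_add]
      exact ((AddMonoidAlgebra.single_mul_single ..).trans (by rw [mul_one])).symm
    let L : (M →+ M ⧸ G) → S ⊗[R] A →ₐ[S] T := fun χ => AlgHom.ofLinearMap (mkL χ)
      (by rw [← E.e_zero, hmk, map_zero]; rfl) (hmul χ)
    let χ₁ : M →+ M ⧸ G := QuotientAddGroup.mk' G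
    have hL : ∀ c : C, mkL χ₁ ((1 : S) ⊗ₜ[R] φ c) = mkL 0 ((1 : S) ⊗ₜ[R] φ c) := fun c => by
      conv_lhs => rw [← E.e.linearCombination_repr ((1 : S) ⊗ₜ[R] φ c)]
      conv_rhs => rw [← E.e.linearCombination_repr ((1 : S) ⊗ₜ[R] φ c)]
      rw [Finsupp.linearCombination_apply, Finsupp.sum, map_sum, map_sum]
      refine Finset.sum_congr rfl fun m _ => ?_
      rw [map_smul, map_smul, hmk, hmk]
      by_cases hm : m ∈ G
      · rw [show χ₁ m = 0 from (QuotientAddGroup.eq_zero_iff m).2 hm]; rfl
      · have hmem : E.e.repr ((1 : S) ⊗ₜ[R] φ c) m ∈ 𝔪 := by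
          by_contra hc
          exact hm (AddSubgroup.subset_closure ⟨c, hc⟩)
        have h0 : ∀ t : T, E.e.repr ((1 : S) ⊗ₜ[R] φ c) m • t = 0 := fun t => by
          rw [← algebraMap_smul (S ⧸ 𝔪) (E.e.repr ((1 : S) ⊗ₜ[R] φ c) m) t, Ideal.Quotient.algebraMap_eq,
            Ideal.Quotient.eq_zero_iff_mem.2 hmem, zero_smul]
        rw [h0, h0]
    have heq := hmono T (a₁ := ((L χ₁).restrictScalars R).comp Algebra.TensorProduct.includeRight)
      (a₂ := ((L 0).restrictScalars R).comp Algebra.TensorProduct.includeRight) (AlgHom.ext hL)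
    have hLL : L χ₁ = L 0 := Algebra.TensorProduct.ext (Subsingleton.elim _ _) heq
    refine hG m₀ ?_ hle
    have h := AlgHom.congr_fun hLL (E.e m₀)
    rw [show L χ₁ (E.e m₀) = _ from hmk χ₁ m₀, show L 0 (E.e m₀) = _ from hmk 0 m₀] at h
    exact (QuotientAddGroup.eq_zero_iff m₀).1 (AddMonoidAlgebra.single_left_injective one_ne_zero h)
  intro x
  show x ∈ P
  rw [← E.e.linearCombination_repr x, Finsupp.linearCombination_apply, Finsupp.sum]
  refine sum_mem fun m _ => hI.1 ?_
  rw [htop]
  exact Submodule.mem_top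

/-- Monomorphisms from groups of multiplicative type are closed immersions. -/
theorem surjective_of_mono (h : SGA3b.IsMultType R A) (φ : C →ₐc[R] A)
    (hmono : ∀ (T : Type u) [CommRing T] [Algebra R T],
      Function.Injective (fun x : A →ₐ[R] T => x.comp (φ : C →ₐ[R] A))) : Function.Surjective φ := by
  obtain ⟨s, hs, H⟩ := exists_cover_split h
  let f : C →ₗ[R] A := (φ : C →ₗ[R] A)
  intro a
  suffices hq : (LinearMap.range f).mkQ a = 0 from (Submodule.Quotient.mk_eq_zero _).1 hq
  refine Module.eq_of_isLocalized_span s hs (fun r : s => Localization.Away r.1 ⊗[R] (A ⧸ LinearMap.range f))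
    (fun r : s => TensorProduct.mk R (Localization.Away r.1) (A ⧸ LinearMap.range f) 1) _ 0 fun r => ?_
  obtain ⟨S, _, _, _, _, N, _, hff, ⟨E⟩⟩ := H r.1 r.2
  rw [map_zero]
  have hinj := Module.FaithfullyFlat.tensorProduct_mk_injective (A := Localization.Away r.1) (B := S)
    (Localization.Away r.1 ⊗[R] (A ⧸ LinearMap.range f))
  apply hinj
  simp only [TensorProduct.mk_apply, TensorProduct.tmul_zero]
  apply (TensorProduct.AlgebraTensorModule.cancelBaseChange R (Localization.Away r.1) S S
    (A ⧸ LinearMap.range f)).injective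
  obtain ⟨y, hy⟩ := surjective_of_mono_of_split E φ hmono ((1 : S) ⊗ₜ[R] a)
  have hz : ∀ y, (LinearMap.range f).mkQ.lTensor S (Algebra.TensorProduct.map (AlgHom.id S S) (φ : C →ₐ[R] A) y) = 0 :=
    fun y => by
    induction y using TensorProduct.induction_on with
    | zero => simp
    | add y y' hy hy' => rw [map_add, map_add, hy, hy', add_zero]
    | tmul p q =>
      rw [Algebra.TensorProduct.map_tmul, LinearMap.lTensor_tmul, Submodule.mkQ_apply,
        (Submodule.Quotient.mk_eq_zero (LinearMap.range f)).2 (LinearMap.mem_range.2 ⟨q, rfl⟩ : (φ : C →ₐ[R] A) q ∈ LinearMap.range f), TensorProduct.tmul_zero]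
  have := hz y
  rw [hy, LinearMap.lTensor_tmul] at this
  rw [map_zero, TensorProduct.AlgebraTensorModule.cancelBaseChange_tmul, one_smul]
  exact this

end Groth.Agent.DiagHopf
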