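import Groth.Agent.DiagHopfLib.FieldDesc
import Mathlib.RingTheory.Bialgebra.TensorProduct
import Mathlib.RingTheory.TensorProduct.Free

set_option autoImplicit false

/-!
Closed subgroups of groups of multiplicative type over a field.
-/

noncomputable section

universe u w

open scoped TensorProduct
open Groth.Agent.TorusField

namespace Groth.Agent.DiagHopf

variable {K : Type u} [Field K]

theorem isDiagonalizable_of_split {A : Type u} [CommRing A] [HopfAlgebra K A] {L : Type u} [Field L] [Algebra K L]
    {M : Type w} [AddCommGroup M] (E : Split K A M L) : HopfRep.IsDiagonalizable L (L ⊗[K] A) := by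
  rw [HopfRep.IsDiagonalizable, eq_top_iff, ← E.e.span_eq]
  exact Submodule.span_mono (Set.range_subset_iff.2 fun m => groupLike_of_isGL (E.gl m))

theorem isDiagonalizable_of_surjective {A B : Type u} [CommRing A] [HopfAlgebra K A] [CommRing B] [HopfAlgebra K B]
    (φ : A →ₐc[K] B) (hφ : Function.Surjective φ) (h : HopfRep.IsDiagonalizable K A) :
    HopfRep.IsDiagonalizable K B := by
  rw [HopfRep.IsDiagonalizable, eq_top_iff]
  rintro b -
  obtain ⟨a, rfl⟩ := hφ b
  have ha : a ∈ Submodule.span K {x : A | IsGroupLikeElem K x} := by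
    rw [HopfRep.IsDiagonalizable] at h
    exact h ▸ Submodule.mem_top
  induction ha using Submodule.span_induction with
  | mem x hx => exact Submodule.subset_span (hx.map φ)
  | zero => rw [map_zero]; exact zero_mem _
  | add x y _ _ hx hy => rw [map_add]; exact add_mem hx hy
  | smul c x _ hx => rw [map_smul]; exact Submodule.smul_mem _ c hx

theorem isMultType_of_surjective {A B : Type u} [CommRing A] [HopfAlgebra K A] [CommRing B] [HopfAlgebra K B]
    (φ : A →ₐc[K] B) (hφ : Function.Surjective φ) (h : SGA3b.IsMultType K A) : SGA3b.IsMultType K B := by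
  obtain ⟨L, _, _, N, _, ⟨E⟩⟩ := exists_field_split h
  let Φ : L ⊗[K] A →ₐc[L] L ⊗[K] B := Bialgebra.TensorProduct.map (BialgHom.id L L) φ
  have hΦ : Function.Surjective Φ := by
    intro z
    induction z using TensorProduct.induction_on with
    | zero => exact ⟨0, map_zero _⟩
    | add p q hp hq =>
      obtain ⟨p', rfl⟩ := hp
      obtain ⟨q', rfl⟩ := hq
      exact ⟨p' + q', map_add _ _ _⟩
    | tmul l b =>
      obtain ⟨a, rfl⟩ := hφ b
      exact ⟨l ⊗ₜ a, by simp [Φ]⟩
  obtain ⟨N', _, ⟨E'⟩⟩ :=
    exists_split_of_isDiagonalizable (isDiagonalizable_of_surjective Φ hΦ (isDiagonalizable_of_split E))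
  exact isMultType_of_split E'

end Groth.Agent.DiagHopf
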