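import Groth.Agent.DiagHopfLib.Nilp

set_option autoImplicit false

/-!
Subgroups of multiplicative type of diagonalisable groups over a connected base.
-/

noncomputable section

universe u w

open scoped TensorProduct
open Groth.Agent.TorusField

namespace Groth.Agent.DiagHopf

variable {R : Type u} [CommRing R] {B : Type u} [CommRing B] [HopfAlgebra R B]

theorem isGL_one_tmul {g : B} (hg : IsGroupLikeElem R g) (S : Type u) [CommRing S] [Algebra R S] :
    IsGL R B S ((1 : S) ⊗ₜ[R] g) := by
  constructor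
  · simp [D, J₁, J₂, hg.comul_eq_tmul_self]
  · simp [ev1, hg.counit_eq_one]

/-- The coefficient at the neutral element does not depend on the splitting. -/
theorem repr_zero_indep {S : Type u} [CommRing S] [Algebra R S] {N N' : Type w} [AddCommGroup N] [AddCommGroup N']
    (E : Split R B N S) (E' : Split R B N' S) {x : S ⊗[R] B} (hx : IsGL R B S x) :
    E.e.repr x 0 = E'.e.repr x 0 := by
  classical
  have key : ∀ {P P' : Type w} [AddCommGroup P] [AddCommGroup P'] (F : Split R B P S) (F' : Split R B P' S),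
      F.e.repr x 0 * F'.e.repr x 0 = F.e.repr x 0 := by
    intro P P' _ _ F F'
    have h : F.e.repr x 0 • x = F.e.repr x 0 • (1 : S ⊗[R] B) := by
      refine F.e.ext_elem fun j => ?_
      rw [← F.e_zero, map_smul, map_smul, Finsupp.smul_apply, Finsupp.smul_apply, Module.Basis.repr_self,
        smul_eq_mul, smul_eq_mul, Finsupp.single_apply, F.repr_idem hx 0 j]
      split_ifs with h
      · rw [mul_one]
      · rw [mul_zero]
    have := congrArg (fun z => F'.e.repr z 0) h
    simpa [← F'.e_zero] using this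
  rw [← key E E', mul_comm, key E' E]

theorem eq_of_pi_tensor_pi {ι : Type u} [Fintype ι] [DecidableEq ι] {T : ι → Type u} [∀ i, CommRing (T i)]
    [∀ i, Algebra R (T i)] {x y : (Π i, T i) ⊗[R] (Π i, T i)}
    (h : ∀ i j, Algebra.TensorProduct.map (Pi.evalAlgHom R T i) (Pi.evalAlgHom R T j) x =
      Algebra.TensorProduct.map (Pi.evalAlgHom R T i) (Pi.evalAlgHom R T j) y) : x = y := by
  have e : ∀ z, ∑ i, ∑ j, TensorProduct.map (LinearMap.single R T i) (LinearMap.single R T j)
      (Algebra.TensorProduct.map (Pi.evalAlgHom R T i) (Pi.evalAlgHom R T j) z) = z := by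
    intro z
    induction z using TensorProduct.induction_on with
    | zero => simp
    | add a b ha hb => simp only [map_add, Finset.sum_add_distrib, ha, hb]
    | tmul a b =>
      simp only [Algebra.TensorProduct.map_tmul, TensorProduct.map_tmul, ← TensorProduct.tmul_sum,
        ← TensorProduct.sum_tmul, sum_single_proj]
  rw [← e x, ← e y]
  simp only [h]

variable {A : Type u} [CommRing A] [HopfAlgebra R A]

/-- Over a connected base, quotients of multiplicative type of diagonalisable groups are diagonalisable. -/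
theorem isDiag_of_surjective [Nontrivial R] (hconn : ∀ e : R, IsIdempotentElem e → e = 0 ∨ e = 1)
    (hA : SGA3b.IsDiag R A) (φ : A →ₐc[R] B) (hφ : Function.Surjective φ) (hB : SGA3b.IsMultType R B) :
    SGA3b.IsDiag R B := by
  classical
  obtain ⟨M, _, ⟨e⟩⟩ := hA
  obtain ⟨ι, _, T, _, _, N, _, hff, hE⟩ := exists_family_split hB
  haveI := hff
  let E := fun i => (hE i).some
  let Φ : MonoidAlgebra R M →ₐ[R] B := (φ : A →ₐ[R] B).comp e.toAlgEquiv.symm.toAlgHom
  let g : M →* B := (Φ : MonoidAlgebra R M →* B).comp (MonoidAlgebra.of R M)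
  have hg : ∀ m, IsGroupLikeElem R (g m) := by
    intro m
    have h0 : IsGroupLikeElem R (MonoidAlgebra.single m (1 : R)) := ⟨by simp, by simp⟩
    exact (h0.map e.symm).map φ
  have hinj : ∀ {x y : B}, (∀ i, (1 : T i) ⊗ₜ[R] x = 1 ⊗ₜ y) → x = y := fun {x y} h =>
    Module.FaithfullyFlat.tensorProduct_mk_injective (A := R) (B := Π i, T i) B
      (eq_of_push_pi (x := (1 : Π i, T i) ⊗ₜ[R] x) (y := 1 ⊗ₜ y) fun i => by simpa using h i)
  have hinjR : ∀ {r : R}, (∀ i, algebraMap R (T i) r = 0) → r = 0 := fun {r} h =>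
    Module.FaithfullyFlat.tensorProduct_mk_injective (A := R) (B := Π i, T i) R (by
      show (1 : Π i, T i) ⊗ₜ[R] r = 1 ⊗ₜ[R] (0 : R)
      rw [show r = r • (1 : R) by simp, TensorProduct.tmul_smul, TensorProduct.smul_tmul',
        show r • (1 : Π i, T i) = 0 from funext fun i => by simp [← Algebra.algebraMap_eq_smul_one, h i],
        TensorProduct.zero_tmul, TensorProduct.tmul_zero])
  let c : M → Π i, T i := fun m i => (E i).e.repr ((1 : T i) ⊗ₜ[R] g m) 0
  have hcases : ∀ m, (∀ i, c m i = 0) ∨ g m = 1 := by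
    intro m
    have heq : (Algebra.TensorProduct.includeLeft : (Π i, T i) →ₐ[R] _) (c m) =
        (Algebra.TensorProduct.includeRight : (Π i, T i) →ₐ[R] (Π i, T i) ⊗[R] (Π i, T i)) (c m) := by
      refine eq_of_pi_tensor_pi fun i j => ?_
      let f₁ : T i →ₐ[R] T i ⊗[R] T j := Algebra.TensorProduct.includeLeft
      let f₂ : T j →ₐ[R] T i ⊗[R] T j := Algebra.TensorProduct.includeRight
      obtain ⟨E₁, hE₁⟩ := exists_split_push (E i) f₁
      obtain ⟨E₂, hE₂⟩ := exists_split_push (E j) f₂
      have h := repr_zero_indep E₁ E₂ (isGL_one_tmul (hg m) (T i ⊗[R] T j))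
      have e₁ : push f₁ ((1 : T i) ⊗ₜ[R] g m) = 1 ⊗ₜ g m := by simp [push, f₁, ← Algebra.TensorProduct.one_def]
      have e₂ : push f₂ ((1 : T j) ⊗ₜ[R] g m) = 1 ⊗ₜ g m := by simp [push, f₂, ← Algebra.TensorProduct.one_def]
      conv_lhs at h => rw [← e₁, repr_push (E i) E₁ f₁ hE₁]
      conv_rhs at h => rw [← e₂, repr_push (E j) E₂ f₂ hE₂]
      simpa [f₁, f₂, c] using h
    obtain ⟨r, hr⟩ : c m ∈ Set.range (algebraMap R (Π i, T i)) := by
      rw [← Algebra.IsEffective.eqLocus_includeLeft_includeRight (Algebra.IsEffective.of_faithfullyFlat R (Π i, T i))]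
      exact heq
    have hcr : ∀ i, algebraMap R (T i) r = c m i := fun i => congrFun hr i
    have hrr : IsIdempotentElem r := sub_eq_zero.1 (hinjR fun i => by
      have h := (E i).repr_idem (isGL_one_tmul (hg m) (T i)) 0 0
      rw [if_pos rfl] at h
      rw [map_sub, map_mul, hcr, sub_eq_zero]
      exact h)
    rcases hconn r hrr with rfl | rfl
    · exact .inl fun i => by rw [← hcr, map_zero]
    · refine .inr (hinj fun i => ?_)
      rw [← Algebra.TensorProduct.one_def]
      refine (E i).e.ext_elem fun j => ?_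
      have h := (E i).repr_idem (isGL_one_tmul (hg m) (T i)) 0 j
      rw [show (E i).e.repr ((1 : T i) ⊗ₜ[R] g m) 0 = 1 from ((hcr i).symm.trans (map_one _)), one_mul] at h
      rw [h, ← (E i).e_zero, Module.Basis.repr_self, Finsupp.single_apply]
  let K : Subgroup M :=
    { carrier := {m | g m = 1}
      mul_mem' := fun {a b} (ha : g a = 1) (hb : g b = 1) => show g (a * b) = 1 by rw [map_mul, ha, hb, mul_one]
      one_mem' := map_one g
      inv_mem' := fun {a} (ha : g a = 1) => show g a⁻¹ = 1 by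
        rw [← mul_one (g a⁻¹), ← ha, ← map_mul, inv_mul_cancel, map_one, ha] }
  let h : M ⧸ K →* B := Con.lift (QuotientGroup.con K) g fun a b hab => by
    have hk : g (a⁻¹ * b) = 1 := QuotientGroup.leftRel_apply.1 hab
    show g a = g b
    rw [← mul_one (g a), ← hk, ← map_mul, mul_inv_cancel_left]
  have hh : ∀ m : M, h (m : M ⧸ K) = g m := fun m => rfl
  let F : MonoidAlgebra R (M ⧸ K) →ₐ[R] B := MonoidAlgebra.lift R B (M ⧸ K) h
  have hF : ∀ q, F (MonoidAlgebra.single q 1) = h q := fun q => by simp [F]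
  have hhg : ∀ q, IsGroupLikeElem R (h q) := fun q => QuotientGroup.induction_on q fun m => hh m ▸ hg m
  let G : MonoidAlgebra R (M ⧸ K) →ₐc[R] B := BialgHom.ofAlgHom F
    (MonoidAlgebra.algHom_ext (fun q => by simp [hF, (hhg q).counit_eq_one]) (Subsingleton.elim _ _))
    (MonoidAlgebra.algHom_ext (fun q => by simp [hF, (hhg q).comul_eq_tmul_self]) (Subsingleton.elim _ _))
  have hsurj : Function.Surjective F := by
    intro b
    obtain ⟨a, rfl⟩ := hφ b
    refine ⟨MonoidAlgebra.mapDomainAlgHom R R (QuotientGroup.mk' K) (e a), ?_⟩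
    have : F.comp (MonoidAlgebra.mapDomainAlgHom R R (QuotientGroup.mk' K)) = Φ :=
      MonoidAlgebra.algHom_ext (fun m => by simp [hF, hh, g]) (Subsingleton.elim _ _)
    refine (DFunLike.congr_fun this (e a)).trans ?_
    simp only [Φ, AlgHom.comp_apply]
    exact congrArg φ (e.toAlgEquiv.symm_apply_apply a)
  have hcol : ∀ i (q q' : M ⧸ K) (n), q ≠ q' →
      (E i).e.repr ((1 : T i) ⊗ₜ[R] h q) n * (E i).e.repr ((1 : T i) ⊗ₜ[R] h q') n = 0 := by
    intro i q q' n hne
    obtain ⟨m, rfl⟩ := QuotientGroup.mk_surjective q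
    obtain ⟨m', rfl⟩ := QuotientGroup.mk_surjective q'
    rw [hh, hh]
    set a := (E i).e.repr ((1 : T i) ⊗ₜ[R] g m) n
    set b := (E i).e.repr ((1 : T i) ⊗ₜ[R] g m') n
    have key : ∀ k, (E i).e.repr ((1 : T i) ⊗ₜ[R] g k) n • ((1 : T i) ⊗ₜ[R] g k) =
        (E i).e.repr ((1 : T i) ⊗ₜ[R] g k) n • (E i).e n := fun k => by
      refine (E i).e.ext_elem fun j => ?_
      rw [map_smul, map_smul, Finsupp.smul_apply, Finsupp.smul_apply, Module.Basis.repr_self, smul_eq_mul,
        smul_eq_mul, Finsupp.single_apply, (E i).repr_idem (isGL_one_tmul (hg k) (T i)) n j]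
      split_ifs with h
      · rw [mul_one]
      · rw [mul_zero]
    have e : (a * b) • ((1 : T i) ⊗ₜ[R] g m) = (a * b) • ((1 : T i) ⊗ₜ[R] g m') := by
      rw [mul_comm a b, mul_smul, key m, mul_comm b a, mul_smul, key m', ← mul_smul, ← mul_smul, mul_comm b a]
    have e' := congrArg (fun z => z * ((1 : T i) ⊗ₜ[R] g m'⁻¹)) e
    simp only [smul_mul_assoc, Algebra.TensorProduct.tmul_mul_tmul, one_mul, ← map_mul, mul_inv_cancel, map_one] at e'
    have h0 : c (m * m'⁻¹) i = 0 := by
      refine (hcases _).resolve_right (fun h1 => hne (QuotientGroup.eq.2 ?_)) i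
      show g (m⁻¹ * m') = 1
      rw [← mul_one (g _), ← h1, ← map_mul, show m⁻¹ * m' * (m * m'⁻¹) = 1 by group; simp, map_one, h1]
    have := congrArg (fun z => (E i).e.repr z 0) e'
    simpa [c, h0, ← Algebra.TensorProduct.one_def, ← (E i).e_zero] using this.symm.trans (by
      rw [map_smul, Finsupp.smul_apply]; rw [show (E i).e.repr ((1 : T i) ⊗ₜ[R] g (m * m'⁻¹)) 0 = 0 from h0]; simp)
  have hli : LinearIndependent R h := by
    rw [linearIndependent_iff']
    intro t s hs q hq
    refine hinjR fun i => ?_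
    have hi : ∑ p ∈ t, algebraMap R (T i) (s p) • ((1 : T i) ⊗ₜ[R] h p) = 0 := by
      simp only [algebraMap_smul, ← TensorProduct.tmul_smul, ← TensorProduct.tmul_sum, hs, TensorProduct.tmul_zero]
    set x := fun p => (1 : T i) ⊗ₜ[R] h p
    have hn : ∀ n, algebraMap R (T i) (s q) * (E i).e.repr (x q) n = 0 := by
      intro n
      have := congrArg (fun z => (E i).e.repr z n * (E i).e.repr (x q) n) hi
      simp only [map_sum, map_smul, Finsupp.coe_finsetSum, Finset.sum_apply, Finsupp.smul_apply, smul_eq_mul,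
        Finset.sum_mul, map_zero, Finsupp.zero_apply, zero_mul] at this
      rw [Finset.sum_eq_single q (fun p _ hp => by rw [mul_assoc, hcol i p q n hp, mul_zero])
        (fun h => absurd hq h), mul_assoc] at this
      have hi' := (E i).repr_idem (isGL_one_tmul (hhg q) (T i)) n n
      rw [if_pos rfl] at hi'
      rwa [hi'] at this
    calc algebraMap R (T i) (s q) = algebraMap R (T i) (s q) * ((E i).e.repr (x q)).sum fun _ c => c := by
          rw [(E i).sum_repr_gl (isGL_one_tmul (hhg q) (T i)), mul_one]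
      _ = 0 := by rw [Finsupp.sum, Finset.mul_sum]; exact Finset.sum_eq_zero fun n _ => hn n
  have hFinj : Function.Injective F := by
    let b := MonoidAlgebra.basis (M ⧸ K) R
    intro x y hxy
    have e : (F : MonoidAlgebra R (M ⧸ K) →ₗ[R] B) = (Finsupp.linearCombination R h) ∘ₗ b.repr.toLinearMap :=
      b.ext fun q => by
        rw [LinearMap.comp_apply, LinearEquiv.coe_coe, Module.Basis.repr_self, Finsupp.linearCombination_single, one_smul]
        simp [b, hF]
    exact b.repr.injective (hli (((LinearMap.congr_fun e x).symm.trans hxy).trans (LinearMap.congr_fun e y)))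
  exact ⟨M ⧸ K, inferInstance, ⟨(BialgEquiv.ofBijective G ⟨hFinj, hsurj⟩).symm⟩⟩

end Groth.Agent.DiagHopf
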