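import Groth.Agent.TorusFieldLib.Split
import Mathlib.RingTheory.Bialgebra.MonoidAlgebra
import Mathlib.RingTheory.HopfAlgebra.Convolution
import Mathlib.RingTheory.Nakayama
import Mathlib.RingTheory.Flat.FaithfullyFlat.Algebra
import Mathlib.RingTheory.Finiteness.Basic
import Mathlib.RingTheory.LocalProperties.Submodule

set_option autoImplicit false

/-!
Coefficient ideals of homomorphisms into diagonalisable groups.
-/

noncomputable section

universe u w

open scoped TensorProduct
open Groth.Agent.TorusField WithConv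

namespace Groth.Agent.DiagHopf

variable {R : Type u} [CommRing R] {A : Type u} [CommRing A] [Bialgebra R A] {M : Type w} [AddCommGroup M]
  {S : Type u} [CommRing S] [Algebra R S] (E : Split R A M S)

/-- Coordinates on the double tensor product. -/
def coord : S ⊗[R] (A ⊗[R] A) →ₗ[S] M × M →₀ S :=
  (finsuppTensorFinsupp' S M M).toLinearMap ∘ₗ
    (TensorProduct.congr E.e.repr E.e.repr).toLinearMap ∘ₗ
    (TensorProduct.AlgebraTensorModule.cancelBaseChange R S S (S ⊗[R] A) A).symm.toLinearMap ∘ₗ
    (TensorProduct.AlgebraTensorModule.assoc R R S S A A).symm.toLinearMap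

theorem coord_mul (u v : S ⊗[R] A) :
    coord E (J₁ R A S u * J₂ R A S v) = finsuppTensorFinsupp' S M M (E.e.repr u ⊗ₜ[S] E.e.repr v) := by
  induction u using TensorProduct.induction_on with
  | zero => simp
  | add p q hp hq => simp only [map_add, add_mul, TensorProduct.add_tmul, hp, hq]
  | tmul s p =>
    induction v using TensorProduct.induction_on with
    | zero => simp
    | add c d hc hd => simp only [map_add, mul_add, TensorProduct.tmul_add, hc, hd]
    | tmul t q =>
      simp only [J₁, J₂, Algebra.TensorProduct.map_tmul, AlgHom.id_apply,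
        Algebra.TensorProduct.includeLeft_apply, Algebra.TensorProduct.includeRight_apply,
        Algebra.TensorProduct.tmul_mul_tmul, one_mul, mul_one, coord, LinearMap.comp_apply, LinearEquiv.coe_coe]
      rw [TensorProduct.AlgebraTensorModule.assoc_symm_tmul,
        TensorProduct.AlgebraTensorModule.cancelBaseChange_symm_tmul, TensorProduct.congr_tmul,
        show t ⊗ₜ[R] q = t • ((1 : S) ⊗ₜ[R] q) by rw [TensorProduct.smul_tmul', smul_eq_mul, mul_one],
        map_smul, TensorProduct.tmul_smul, show (s * t) ⊗ₜ[R] p = t • (s ⊗ₜ[R] p) by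
          rw [TensorProduct.smul_tmul', smul_eq_mul, mul_comm], map_smul, ← TensorProduct.smul_tmul']

theorem coord_one_tmul (a b : A) :
    coord E ((1 : S) ⊗ₜ[R] (a ⊗ₜ[R] b)) =
      finsuppTensorFinsupp' S M M (E.e.repr (1 ⊗ₜ a) ⊗ₜ[S] E.e.repr (1 ⊗ₜ b)) := by
  rw [← coord_mul]
  simp [J₁, J₂, Algebra.TensorProduct.tmul_mul_tmul]

theorem coord_D (z : S ⊗[R] A) (p : M × M) [DecidableEq M] :
    coord E (D R A S z) p = if p.1 = p.2 then E.e.repr z p.1 else 0 := by
  have e : (coord E).comp (D R A S).toLinearMap =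
      (Finsupp.lmapDomain S S fun i => (i, i)) ∘ₗ E.e.repr.toLinearMap := by
    refine E.e.ext fun i => ?_
    simp only [LinearMap.comp_apply, AlgHom.toLinearMap_apply, (E.gl i).1, coord_mul, LinearEquiv.coe_coe,
      Module.Basis.repr_self, Finsupp.lmapDomain_apply, Finsupp.mapDomain_single,
      finsuppTensorFinsupp'_single_tmul_single, one_mul]
  rw [show coord E (D R A S z) = _ from LinearMap.congr_fun e z, LinearMap.comp_apply, LinearEquiv.coe_coe,
    Finsupp.lmapDomain_apply]
  obtain ⟨a, b⟩ := p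
  dsimp only
  split_ifs with hab
  · subst hab
    exact Finsupp.mapDomain_apply (fun i j hij => congrArg Prod.fst hij) _ a
  · refine Finsupp.mapDomain_of_notMem_range _ _ ?_
    rintro ⟨i, hi⟩
    exact hab ((congrArg Prod.fst hi).symm.trans (congrArg Prod.snd hi))

theorem repr_mul_mem {I : Ideal S} {z : S ⊗[R] A} (h : ∀ m, E.e.repr z m ∈ I) (y : S ⊗[R] A) (m : M) :
    E.e.repr (y * z) m ∈ I := by
  have e : y * z = ∑ c ∈ (E.e.repr z).support, E.e.repr z c • (y * E.e c) := by
    conv_lhs => rw [← E.e.linearCombination_repr z, Finsupp.linearCombination_apply, Finsupp.sum, Finset.mul_sum]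
    exact Finset.sum_congr rfl fun c _ => mul_smul_comm _ _ _
  rw [e, map_sum, Finsupp.finsetSum_apply]
  refine sum_mem fun c _ => ?_
  rw [map_smul, Finsupp.smul_apply, smul_eq_mul]
  exact Ideal.mul_mem_right _ _ (h c)

/-- The coefficient ideal of a family of elements. -/
def coefIdeal (X : Set A) : Ideal S :=
  Ideal.span {s | ∃ x ∈ X, ∃ m, s = E.e.repr ((1 : S) ⊗ₜ[R] x) m}

theorem repr_mem_coefIdeal {X : Set A} {x : A} (hx : x ∈ X) (m : M) :
    E.e.repr ((1 : S) ⊗ₜ[R] x) m ∈ coefIdeal E X :=
  Ideal.subset_span ⟨x, hx, m, rfl⟩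

theorem eq_zero_of_coefIdeal_eq_bot {X : Set A} (h : coefIdeal E X = ⊥) {x : A} (hx : x ∈ X) :
    (1 : S) ⊗ₜ[R] x = 0 := by
  refine E.e.ext_elem fun m => ?_
  have := repr_mem_coefIdeal E hx m
  rw [h, Ideal.mem_bot] at this
  rw [this, map_zero, Finsupp.zero_apply]

theorem coefIdeal_le_map {X : Set A} {J : Ideal R} (h : ∀ x ∈ X, x ∈ J.map (algebraMap R A)) :
    coefIdeal E X ≤ J.map (algebraMap R S) := by
  rw [coefIdeal, Ideal.span_le]
  rintro _ ⟨x, hx, m, rfl⟩
  have hx' := h x hx
  rw [Ideal.map] at hx'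
  refine Submodule.span_induction (p := fun y _ => ∀ m, E.e.repr ((1 : S) ⊗ₜ[R] y) m ∈ J.map (algebraMap R S))
    ?_ ?_ ?_ ?_ hx' m
  · rintro _ ⟨j, hj, rfl⟩ m
    rw [Algebra.algebraMap_eq_smul_one, TensorProduct.tmul_smul, TensorProduct.smul_tmul', Algebra.smul_def, mul_one,
      show (algebraMap R S j) ⊗ₜ[R] (1 : A) = algebraMap R S j • ((1 : S) ⊗ₜ[R] (1 : A)) by
        rw [TensorProduct.smul_tmul', smul_eq_mul, mul_one], map_smul, Finsupp.smul_apply, smul_eq_mul]
    exact Ideal.mul_mem_right _ _ (Ideal.mem_map_of_mem _ hj)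
  · intro m; simp
  · intro a b _ _ ha hb m
    rw [TensorProduct.tmul_add, map_add, Finsupp.add_apply]
    exact add_mem (ha m) (hb m)
  · intro a y _ hy m
    rw [smul_eq_mul, show (1 : S) ⊗ₜ[R] (a * y) = ((1 : S) ⊗ₜ[R] a) * ((1 : S) ⊗ₜ[R] y) by
      rw [Algebra.TensorProduct.tmul_mul_tmul, one_mul]]
    exact repr_mul_mem E hy _ m

variable {C : Type u} [CommRing C] [Bialgebra R C]

theorem repr_algebraMap_eq {z : A} {r : R} (m : M) :
    E.e.repr ((1 : S) ⊗ₜ[R] (algebraMap R A r * z)) m = algebraMap R S r * E.e.repr ((1 : S) ⊗ₜ[R] z) m := by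
  rw [← Algebra.smul_def, TensorProduct.tmul_smul, ← IsScalarTower.algebraMap_smul S r, map_smul, Finsupp.smul_apply,
    smul_eq_mul]

/-- The key rigidity: the coefficient ideal of a homomorphism minus the trivial one is idempotent. -/
theorem coefIdeal_le_sq (φ : C →ₐ[R] A) (hφ : (Algebra.TensorProduct.map φ φ).comp (Bialgebra.comulAlgHom R C) =
      (Bialgebra.comulAlgHom R A).comp φ) :
    coefIdeal E (Set.range fun c => φ c - algebraMap R A (Coalgebra.counit c)) ≤
      coefIdeal E (Set.range fun c => φ c - algebraMap R A (Coalgebra.counit c)) *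
        coefIdeal E (Set.range fun c => φ c - algebraMap R A (Coalgebra.counit c)) := by
  classical
  set X := Set.range fun c => φ c - algebraMap R A (Coalgebra.counit c)
  set I := coefIdeal E X
  rw [show I = Ideal.span _ from rfl, Ideal.span_le]
  rintro _ ⟨_, ⟨c, rfl⟩, m, rfl⟩
  set ρ : C →ₗ[R] A := φ.toLinearMap - (Algebra.linearMap R A) ∘ₗ Coalgebra.counit with hρ
  have hρX : ∀ c, ρ c ∈ X := fun c => ⟨c, rfl⟩
  have key : CoalgebraStruct.comul (R := R) (ρ c) - ρ c ⊗ₜ[R] (1 : A) - (1 : A) ⊗ₜ[R] ρ c =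
      TensorProduct.map ρ ρ (CoalgebraStruct.comul c) := by
    have h1 : TensorProduct.map ρ ρ (CoalgebraStruct.comul c) =
        TensorProduct.map φ.toLinearMap φ.toLinearMap (CoalgebraStruct.comul c) -
          TensorProduct.map φ.toLinearMap (Algebra.linearMap R A ∘ₗ Coalgebra.counit) (CoalgebraStruct.comul c) -
          TensorProduct.map (Algebra.linearMap R A ∘ₗ Coalgebra.counit) φ.toLinearMap (CoalgebraStruct.comul c) +
          TensorProduct.map (Algebra.linearMap R A ∘ₗ Coalgebra.counit) (Algebra.linearMap R A ∘ₗ Coalgebra.counit)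
            (CoalgebraStruct.comul c) := by
      generalize CoalgebraStruct.comul (R := R) c = z
      induction z using TensorProduct.induction_on with
      | zero => simp
      | add p q hp hq => simp only [map_add, hp, hq]; abel
      | tmul p q => simp [hρ, TensorProduct.sub_tmul, TensorProduct.tmul_sub]; abel
    have e2 : TensorProduct.map φ.toLinearMap φ.toLinearMap (CoalgebraStruct.comul c) =
        CoalgebraStruct.comul (R := R) (φ c) := DFunLike.congr_fun hφ c
    have e3 : TensorProduct.map φ.toLinearMap (Algebra.linearMap R A ∘ₗ Coalgebra.counit)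
        (CoalgebraStruct.comul c) = φ c ⊗ₜ[R] (1 : A) := by
      have : TensorProduct.map φ.toLinearMap (Algebra.linearMap R A ∘ₗ Coalgebra.counit) =
          TensorProduct.map φ.toLinearMap (Algebra.linearMap R A) ∘ₗ (Coalgebra.counit (R := R) (A := C)).lTensor C := by
        rw [LinearMap.lTensor, ← TensorProduct.map_comp, LinearMap.comp_id]
      rw [this, LinearMap.comp_apply, Coalgebra.lTensor_counit_comul]
      simp
    have e4 : TensorProduct.map (Algebra.linearMap R A ∘ₗ Coalgebra.counit) φ.toLinearMap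
        (CoalgebraStruct.comul c) = (1 : A) ⊗ₜ[R] φ c := by
      have : TensorProduct.map (Algebra.linearMap R A ∘ₗ Coalgebra.counit) φ.toLinearMap =
          TensorProduct.map (Algebra.linearMap R A) φ.toLinearMap ∘ₗ (Coalgebra.counit (R := R) (A := C)).rTensor C := by
        rw [LinearMap.rTensor, ← TensorProduct.map_comp, LinearMap.comp_id]
      rw [this, LinearMap.comp_apply, Coalgebra.rTensor_counit_comul]
      simp
    have e5 : TensorProduct.map (Algebra.linearMap R A ∘ₗ Coalgebra.counit)
        (Algebra.linearMap R A ∘ₗ Coalgebra.counit) (CoalgebraStruct.comul c) =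
        Coalgebra.counit (R := R) c • ((1 : A) ⊗ₜ[R] (1 : A)) := by
      have : TensorProduct.map (Algebra.linearMap R A ∘ₗ Coalgebra.counit) (Algebra.linearMap R A ∘ₗ Coalgebra.counit)
          = TensorProduct.map (Algebra.linearMap R A) (Algebra.linearMap R A ∘ₗ Coalgebra.counit) ∘ₗ
            (Coalgebra.counit (R := R) (A := C)).rTensor C := by
        rw [LinearMap.rTensor, ← TensorProduct.map_comp, LinearMap.comp_id]
      rw [this, LinearMap.comp_apply, Coalgebra.rTensor_counit_comul]
      simp [Algebra.algebraMap_eq_smul_one, TensorProduct.tmul_smul]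
    rw [h1, e2, e3, e4, e5]
    simp only [hρ, LinearMap.sub_apply, AlgHom.toLinearMap_apply, LinearMap.comp_apply, Algebra.linearMap_apply,
      map_sub, Bialgebra.comul_algebraMap, TensorProduct.sub_tmul, TensorProduct.tmul_sub,
      Algebra.TensorProduct.algebraMap_apply]
    simp only [Algebra.algebraMap_eq_smul_one, TensorProduct.tmul_smul, TensorProduct.smul_tmul']
    abel
  -- compare coordinates
  have hL := congrArg (fun z : A ⊗[R] A => coord E ((1 : S) ⊗ₜ[R] z)) key
  simp only [TensorProduct.tmul_sub, map_sub] at hL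
  rw [show (1 : S) ⊗ₜ[R] CoalgebraStruct.comul (R := R) (ρ c) = D R A S ((1 : S) ⊗ₜ[R] ρ c) by simp [D],
    coord_one_tmul, coord_one_tmul] at hL
  have hone : E.e.repr ((1 : S) ⊗ₜ[R] (1 : A)) = Finsupp.single 0 1 := by
    rw [← Algebra.TensorProduct.one_def, ← E.e_zero, Module.Basis.repr_self]
  rw [hone] at hL
  have hmem : ∀ z : C ⊗[R] C, ∀ p, coord E ((1 : S) ⊗ₜ[R] TensorProduct.map ρ ρ z) p ∈ I * I := by
    intro z p
    induction z using TensorProduct.induction_on with
    | zero => simp
    | add a b ha hb =>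
      simp only [map_add, TensorProduct.tmul_add, Finsupp.add_apply]; exact add_mem ha hb
    | tmul a b =>
      obtain ⟨p, q⟩ := p
      rw [TensorProduct.map_tmul, coord_one_tmul, finsuppTensorFinsupp'_apply_apply]
      exact Ideal.mul_mem_mul (repr_mem_coefIdeal E (hρX a) p) (repr_mem_coefIdeal E (hρX b) q)
  show E.e.repr ((1 : S) ⊗ₜ[R] ρ c) m ∈ I * I
  have h := DFunLike.congr_fun hL (m, m)
  simp only [Finsupp.sub_apply, coord_D, if_true, finsuppTensorFinsupp'_apply_apply, Finsupp.single_apply] at h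
  by_cases hm : (0 : M) = m
  · rw [if_pos hm, mul_one, one_mul] at h
    have h' := hmem (CoalgebraStruct.comul c) (m, m)
    rw [← h] at h'
    simpa using h'
  · rw [if_neg hm, mul_zero, zero_mul, sub_zero, sub_zero] at h
    rw [h]; exact hmem _ _

theorem coefIdeal_fg [Algebra.FiniteType R C] (φ : C →ₐ[R] A) :
    (coefIdeal E (Set.range fun c => φ c - algebraMap R A (Coalgebra.counit c))).FG := by
  classical
  obtain ⟨T, hT⟩ := (Algebra.FiniteType.out : (⊤ : Subalgebra R C).FG)
  let G : Finset S := T.biUnion fun t =>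
    (E.e.repr ((1 : S) ⊗ₜ[R] (φ t - algebraMap R A (Coalgebra.counit t)))).support.image
      (E.e.repr ((1 : S) ⊗ₜ[R] (φ t - algebraMap R A (Coalgebra.counit t))))
  refine ⟨G, le_antisymm ?_ ?_⟩
  · rw [Ideal.span_le]
    intro g hg
    simp only [G, Finset.coe_biUnion, Set.mem_iUnion, Finset.coe_image, Set.mem_image] at hg
    obtain ⟨t, -, i, -, rfl⟩ := hg
    exact repr_mem_coefIdeal E (X := Set.range fun c => φ c - algebraMap R A (Coalgebra.counit c)) ⟨t, rfl⟩ i
  rw [coefIdeal, Ideal.span_le]
  rintro _ ⟨_, ⟨c, rfl⟩, m, rfl⟩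
  let I := Ideal.span (G : Set S)
  let P : C → Prop := fun c => ∀ m, E.e.repr ((1 : S) ⊗ₜ[R] (φ c - algebraMap R A (Coalgebra.counit c))) m ∈ I
  have hc : c ∈ Algebra.adjoin R (T : Set C) := hT ▸ Algebra.mem_top
  refine (?_ : P c) m
  induction hc using Algebra.adjoin_induction with
  | mem t ht =>
    intro i
    by_cases hi : i ∈ (E.e.repr ((1 : S) ⊗ₜ[R] (φ t - algebraMap R A (Coalgebra.counit t)))).support
    · exact Ideal.subset_span (Finset.mem_biUnion.2 ⟨t, ht, Finset.mem_image_of_mem _ hi⟩)
    · rw [Finsupp.notMem_support_iff.1 hi]; exact zero_mem _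
  | algebraMap r => intro i; simp [Bialgebra.counit_algebraMap]
  | add a b _ _ ha hb =>
    intro i
    simp only [map_add, add_sub_add_comm, TensorProduct.tmul_add, Finsupp.add_apply]
    exact add_mem (ha i) (hb i)
  | mul a b _ _ ha hb =>
    intro i
    have e : φ (a * b) - algebraMap R A (Coalgebra.counit (a * b)) =
        (φ a - algebraMap R A (Coalgebra.counit a)) * φ b +
          algebraMap R A (Coalgebra.counit a) * (φ b - algebraMap R A (Coalgebra.counit b)) := by
      rw [map_mul, Bialgebra.counit_mul, map_mul]; ring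
    rw [e, TensorProduct.tmul_add, map_add, Finsupp.add_apply, repr_algebraMap_eq]
    refine add_mem ?_ (Ideal.mul_mem_left _ _ (hb i))
    rw [show (1 : S) ⊗ₜ[R] ((φ a - algebraMap R A (Coalgebra.counit a)) * φ b) =
      ((1 : S) ⊗ₜ[R] φ b) * ((1 : S) ⊗ₜ[R] (φ a - algebraMap R A (Coalgebra.counit a))) by
        rw [Algebra.TensorProduct.tmul_mul_tmul, one_mul, mul_comm]]
    exact repr_mul_mem E ha _ i

end Groth.Agent.DiagHopf
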