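import Groth.Agent.DiagHopfLib.Descent
import Mathlib.RingTheory.Flat.Localization
import Mathlib.RingTheory.Flat.Basic
import Mathlib.RingTheory.TensorProduct.IncludeLeftSubRight

set_option autoImplicit false

/-!
Finite families of local splittings and faithfully flat descent of elements.
-/

noncomputable section

universe u w

open scoped TensorProduct
open Groth.Agent.TorusField

namespace Groth.Agent.DiagHopf

variable {R : Type u} [CommRing R]

theorem sum_single_proj {ι : Type u} [Fintype ι] [DecidableEq ι] (S : ι → Type u) [∀ i, CommRing (S i)]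
    [∀ i, Algebra R (S i)] (x : Π i, S i) :
    ∑ i, LinearMap.single R S i (Pi.evalAlgHom R S i x) = x := by
  funext j
  simp [Finset.sum_apply]

/-- A family of linear maps with a joint left inverse stays jointly injective after tensoring. -/
theorem eq_zero_of_rTensor_eq_zero {ι : Type*} [Fintype ι] {P : Type*} [AddCommGroup P] [Module R P]
    {Q : ι → Type*} [∀ i, AddCommGroup (Q i)] [∀ i, Module R (Q i)] (p : ∀ i, P →ₗ[R] Q i) (σ : ∀ i, Q i →ₗ[R] P)
    (h : ∀ x, ∑ i, σ i (p i x) = x) {V : Type*} [AddCommGroup V] [Module R V] {z : P ⊗[R] V}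
    (hz : ∀ i, (p i).rTensor V z = 0) : z = 0 := by
  have e : ∀ w : P ⊗[R] V, ∑ i, (σ i).rTensor V ((p i).rTensor V w) = w := by
    intro w
    induction w using TensorProduct.induction_on with
    | zero => simp
    | add a b ha hb => simp only [map_add, Finset.sum_add_distrib, ha, hb]
    | tmul a v => simp [← TensorProduct.sum_tmul, h]
  rw [← e z]
  simp [hz]

theorem eq_of_push_pi {ι : Type u} [Fintype ι] [DecidableEq ι] {S : ι → Type u} [∀ i, CommRing (S i)]
    [∀ i, Algebra R (S i)] {A : Type u} [CommRing A] [Algebra R A] {x y : (Π i, S i) ⊗[R] A}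
    (h : ∀ i, Algebra.TensorProduct.map (Pi.evalAlgHom R S i) (AlgHom.id R A) x =
      Algebra.TensorProduct.map (Pi.evalAlgHom R S i) (AlgHom.id R A) y) : x = y := by
  refine sub_eq_zero.1 (eq_zero_of_rTensor_eq_zero (fun i => (Pi.evalAlgHom R S i).toLinearMap)
    (LinearMap.single R S) (sum_single_proj S) fun i => ?_)
  rw [map_sub, sub_eq_zero]
  exact h i

theorem faithfullyFlat_pi {ι : Type u} [Finite ι] (S : ι → Type u) [∀ i, CommRing (S i)] [∀ i, Algebra R (S i)]
    (hflat : ∀ i, Module.Flat R (S i))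
    (hmax : ∀ m : Ideal R, m.IsMaximal → ∃ i, m • (⊤ : Submodule R (S i)) ≠ ⊤) :
    Module.FaithfullyFlat R (Π i, S i) := by
  classical
  cases nonempty_fintype ι
  haveI : Module.Flat R (Π i, S i) := by
    have := hflat
    exact Module.Flat.of_linearEquiv (DirectSum.linearEquivFunOnFintype R ι S).symm
  refine ⟨fun {m} hm htop => ?_⟩
  obtain ⟨i, hi⟩ := hmax m hm
  refine hi ?_
  have h := congrArg (Submodule.map (LinearMap.proj i : (Π i, S i) →ₗ[R] S i)) htop
  rwa [Submodule.map_smul'', Submodule.map_top, LinearMap.range_eq_top.2 (LinearMap.proj_surjective i)] at h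

/-- Local splittings as a finite family with faithfully flat product. -/
theorem exists_family_split {A : Type u} [CommRing A] [HopfAlgebra R A] (h : SGA3b.IsMultType R A) :
    ∃ (ι : Type u) (_ : Fintype ι) (S : ι → Type u) (_ : ∀ i, CommRing (S i)) (_ : ∀ i, Algebra R (S i))
      (N : ι → Type u) (_ : ∀ i, CommGroup (N i)), Module.FaithfullyFlat R (Π i, S i) ∧
      ∀ i, Nonempty (Split R A (Additive (N i)) (S i)) := by
  classical
  obtain ⟨s, hs, H⟩ := exists_cover_split h
  obtain ⟨t, hts, ht⟩ := (Ideal.span_eq_top_iff_finite s).1 hs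
  choose S i1 i2 i3 i4 N i5 hff hE using fun f : (t : Set R) => H f.1 (hts f.2)
  refine ⟨(t : Set R), inferInstance, S, i1, i2, N, i5, @faithfullyFlat_pi R _ _ _ S i1 i2 ?_ ?_, hE⟩
  · intro f
    letI := i1 f; letI := i2 f; letI := i3 f; haveI := i4 f; haveI := hff f
    haveI : Module.Flat R (Localization.Away f.1) := IsLocalization.flat _ (Submonoid.powers f.1)
    exact Module.Flat.trans R (Localization.Away f.1) (S f)
  · intro m hm
    obtain ⟨f, hft, hfm⟩ : ∃ f ∈ t, f ∉ m := by
      by_contra hne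
      push Not at hne
      exact hm.ne_top (top_le_iff.1 (ht ▸ Ideal.span_le.2 fun f hf => hne f hf))
    refine ⟨⟨f, hft⟩, fun htop => ?_⟩
    letI := i1 ⟨f, hft⟩; letI := i2 ⟨f, hft⟩; letI := i3 ⟨f, hft⟩; haveI := i4 ⟨f, hft⟩; haveI := hff ⟨f, hft⟩
    set m' := m.map (algebraMap R (Localization.Away f))
    have hm' : m' ≠ ⊤ := by
      haveI := hm.isPrime
      exact (IsLocalization.map_algebraMap_ne_top_iff_disjoint (Submonoid.powers f) (Localization.Away f) m).2
        ((Ideal.disjoint_powers_iff_notMem_of_isPrime f).2 hfm)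
    rw [Ideal.smul_top_eq_map, Submodule.restrictScalars_eq_top_iff,
      IsScalarTower.algebraMap_eq R (Localization.Away f) (S ⟨f, hft⟩), ← Ideal.map_map] at htop
    obtain ⟨M', hM', hle⟩ := Ideal.exists_le_maximal _ hm'
    refine Module.FaithfullyFlat.submodule_ne_top (M := S ⟨f, hft⟩) hM' ?_
    rw [Ideal.smul_top_eq_map, Submodule.restrictScalars_eq_top_iff, eq_top_iff, ← htop]
    exact Ideal.map_mono hle

/-- Elements of `S ⊗ V` equalised by the two coface maps come from `V`. -/
theorem exists_of_coface_eq {S : Type u} [CommRing S] [Algebra R S] [Module.FaithfullyFlat R S]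
    {A : Type u} [CommRing A] [Algebra R A] {z : S ⊗[R] A}
    (h : Algebra.TensorProduct.map (Algebra.TensorProduct.includeLeft : S →ₐ[R] S ⊗[R] S) (AlgHom.id R A) z =
      Algebra.TensorProduct.map (Algebra.TensorProduct.includeRight : S →ₐ[R] S ⊗[R] S) (AlgHom.id R A) z) :
    ∃ a : A, (1 : S) ⊗ₜ[R] a = z := by
  let ι : A →ₗ[R] S ⊗[R] A := TensorProduct.mk R S A 1
  let p₁ : S ⊗[R] A →ₗ[R] (S ⊗[R] S) ⊗[R] A :=
    (Algebra.TensorProduct.includeLeft : S →ₐ[R] S ⊗[R] S).toLinearMap.rTensor A
  let p₂ : S ⊗[R] A →ₗ[R] (S ⊗[R] S) ⊗[R] A :=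
    (Algebra.TensorProduct.includeRight : S →ₐ[R] S ⊗[R] S).toLinearMap.rTensor A
  have hex : Function.Exact ι (p₁ - p₂) := by
    refine Module.FaithfullyFlat.lTensor_reflects_exact R S _ _ fun w => ⟨fun hw => ?_, ?_⟩
    · let hh : S ⊗[R] ((S ⊗[R] S) ⊗[R] A) →ₗ[R] S ⊗[R] (S ⊗[R] A) :=
        (LinearMap.mul' R S).rTensor (S ⊗[R] A) ∘ₗ (TensorProduct.assoc R S S (S ⊗[R] A)).symm.toLinearMap ∘ₗ
          (TensorProduct.assoc R S S A).toLinearMap.lTensor S
      let mm : S ⊗[R] (S ⊗[R] A) →ₗ[R] S ⊗[R] A :=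
        (LinearMap.mul' R S).rTensor A ∘ₗ (TensorProduct.assoc R S S A).symm.toLinearMap
      have e₁ : hh ∘ₗ p₁.lTensor S = ι.lTensor S ∘ₗ mm := by
        apply TensorProduct.ext'
        intro s x
        induction x using TensorProduct.induction_on with
        | zero => simp
        | add p q hp hq => simp only [TensorProduct.tmul_add, map_add, hp, hq]
        | tmul t a => simp [hh, mm, p₁, ι]
      have e₂ : hh ∘ₗ p₂.lTensor S = LinearMap.id := by
        apply TensorProduct.ext'
        intro s x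
        induction x using TensorProduct.induction_on with
        | zero => simp
        | add p q hp hq => simp only [TensorProduct.tmul_add, map_add, hp, hq]
        | tmul t a => simp [hh, p₂]
      refine ⟨mm w, ?_⟩
      rw [LinearMap.lTensor_sub, LinearMap.sub_apply, sub_eq_zero] at hw
      have := congrArg hh hw
      rw [← LinearMap.comp_apply, ← LinearMap.comp_apply, e₁, e₂] at this
      exact this
    · rintro ⟨v, rfl⟩
      rw [← LinearMap.comp_apply, ← LinearMap.lTensor_comp, show (p₁ - p₂) ∘ₗ ι = 0 from LinearMap.ext fun a => by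
        simp [p₁, p₂, ι, Algebra.TensorProduct.one_def], LinearMap.lTensor_zero, LinearMap.zero_apply]
  exact (hex z).1 (by rw [LinearMap.sub_apply, sub_eq_zero]; exact h)

end Groth.Agent.DiagHopf
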