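import Groth.Agent.DiagHopfLib.Descent
import Groth.Prelude.Def_HopfRep
import Mathlib.RingTheory.HopfAlgebra.GroupLike
import Mathlib.RingTheory.Bialgebra.Equiv

set_option autoImplicit false

/-!
Dictionary between splittings and diagonalisable bialgebras.
-/

noncomputable section

universe u w

open scoped TensorProduct
open Groth.Agent.TorusField

namespace Groth.Agent.DiagHopf

variable {R : Type u} [CommRing R] {A : Type u} [CommRing A] [Bialgebra R A]
  {S : Type u} [CommRing S] [Algebra R S]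

theorem groupLike_of_isGL {x : S ⊗[R] A} (h : IsGL R A S x) :
    IsGroupLikeElem S x := by
  let c : (S ⊗[R] A) ⊗[S] (S ⊗[R] A) →ₐ[S] S ⊗[R] (A ⊗[R] A) :=
    Algebra.TensorProduct.lift (J₁ R A S) (J₂ R A S) fun _ _ => Commute.all _ _
  let d : S ⊗[R] (A ⊗[R] A) →ₐ[S] (S ⊗[R] A) ⊗[S] (S ⊗[R] A) :=
    Algebra.TensorProduct.lift (Algebra.ofId S _)
      (Algebra.TensorProduct.lift
        (((Algebra.TensorProduct.includeLeft : S ⊗[R] A →ₐ[S] _).restrictScalars R).comp
          Algebra.TensorProduct.includeRight)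
        (((Algebra.TensorProduct.includeRight : S ⊗[R] A →ₐ[S] (S ⊗[R] A) ⊗[S] (S ⊗[R] A)).restrictScalars R).comp
          Algebra.TensorProduct.includeRight) fun _ _ => Commute.all _ _) fun _ _ => Commute.all _ _
  have hdc : d.comp c = AlgHom.id S _ := by
    refine Algebra.TensorProduct.ext
      (Algebra.TensorProduct.ext (Subsingleton.elim _ _) (AlgHom.ext fun a => ?_))
      (Algebra.TensorProduct.ext (Subsingleton.elim _ _) (AlgHom.ext fun a => ?_))
    · simp [c, d, J₁, J₂, ← Algebra.TensorProduct.one_def]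
    · simp [c, d, J₁, J₂, ← Algebra.TensorProduct.one_def]
  have e : c.comp (Bialgebra.comulAlgHom S (S ⊗[R] A)) = D R A S := by
    refine Algebra.TensorProduct.ext (Subsingleton.elim _ _) (AlgHom.ext fun a => ?_)
    simp only [AlgHom.comp_apply, AlgHom.coe_restrictScalars', Algebra.TensorProduct.includeRight_apply,
      Bialgebra.comulAlgHom_apply, TensorProduct.comul_tmul, CommSemiring.comul_apply, D,
      Algebra.TensorProduct.map_tmul, AlgHom.id_apply]
    generalize CoalgebraStruct.comul (R := R) a = z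
    induction z using TensorProduct.induction_on with
    | zero => simp
    | add p q hp hq => simp only [TensorProduct.tmul_add, map_add, hp, hq]
    | tmul p q =>
      simp [c, J₁, J₂, TensorProduct.AlgebraTensorModule.tensorTensorTensorComm_tmul,
        Algebra.TensorProduct.tmul_mul_tmul]
  have e' : (Bialgebra.counitAlgHom S (S ⊗[R] A)) = ev1 R A S := by
    refine Algebra.TensorProduct.ext (Subsingleton.elim _ _) (AlgHom.ext fun a => ?_)
    simp [ev1, TensorProduct.counit_tmul, Algebra.smul_def]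
  refine ⟨?_, ?_⟩
  · rw [← Bialgebra.counitAlgHom_apply, e', h.2]
  · have h1 : c (CoalgebraStruct.comul (R := S) x) = c (x ⊗ₜ[S] x) := by
      rw [← Bialgebra.comulAlgHom_apply, ← AlgHom.comp_apply, e, h.1, Algebra.TensorProduct.lift_tmul]
    have h2 := congrArg d h1
    rwa [← AlgHom.comp_apply, ← AlgHom.comp_apply, hdc] at h2

/-- A splitting gives an isomorphism with a group algebra. -/
theorem exists_bialgEquiv {N : Type w} [CommGroup N] (E : Split R A (Additive N) S) :
    Nonempty ((S ⊗[R] A) ≃ₐc[S] MonoidAlgebra S N) := by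
  let F : MonoidAlgebra S N →ₐ[S] S ⊗[R] A := MonoidAlgebra.lift S (S ⊗[R] A) N
    { toFun := fun n => E.e (Additive.ofMul n)
      map_one' := by rw [ofMul_one, E.e_zero]
      map_mul' := fun a b => by rw [ofMul_mul, E.e_add] }
  have hF : ∀ n, F (MonoidAlgebra.single n 1) = E.e (Additive.ofMul n) := fun n => by simp [F]
  let G : MonoidAlgebra S N →ₐc[S] S ⊗[R] A := BialgHom.ofAlgHom F
    (MonoidAlgebra.algHom_ext (fun n => by
      simp [hF, (groupLike_of_isGL (E.gl (Additive.ofMul n))).counit_eq_one]) (Subsingleton.elim _ _))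
    (MonoidAlgebra.algHom_ext (fun n => by
      simp [hF, (groupLike_of_isGL (E.gl (Additive.ofMul n))).comul_eq_tmul_self]) (Subsingleton.elim _ _))
  have hb : ∀ n, G (MonoidAlgebra.basis N S n) = (E.e.reindex Additive.toMul) n := fun n => by
    rw [MonoidAlgebra.basis_apply, Module.Basis.reindex_apply]
    exact hF n
  have hG : Function.Bijective G := by
    let L := (MonoidAlgebra.basis N S).equiv (E.e.reindex Additive.toMul) (Equiv.refl N)
    have : (G : MonoidAlgebra S N →ₗ[S] S ⊗[R] A) = L.toLinearMap := (MonoidAlgebra.basis N S).ext fun n => by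
      refine (hb n).trans ?_
      exact (Module.Basis.equiv_apply (b := MonoidAlgebra.basis N S) (b' := E.e.reindex Additive.toMul) (e := Equiv.refl N)
        (i := n)).symm
    have h' : ⇑G = ⇑L := funext fun x => LinearMap.congr_fun this x
    rw [h']; exact L.bijective
  exact ⟨(BialgEquiv.ofBijective G hG).symm⟩

/-- Diagonalisable Hopf algebras over a field split. -/
theorem exists_split_of_isDiagonalizable {K : Type u} [Field K] [Algebra R K] {A : Type u} [CommRing A]
    [HopfAlgebra R A] (h : HopfRep.IsDiagonalizable K (K ⊗[R] A)) :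
    ∃ (N : Type u) (_ : CommGroup N), Nonempty (Split R A (Additive N) K) := by
  let b : Module.Basis (GroupLike K (K ⊗[R] A)) K (K ⊗[R] A) := Module.Basis.mk linearIndep_groupLikeVal (by
    rw [← h]
    refine Submodule.span_mono fun x hx => ⟨⟨x, hx⟩, rfl⟩)
  have hb : ∀ g, b g = g.val := fun g => Module.Basis.mk_apply _ _ _
  refine ⟨GroupLike K (K ⊗[R] A), inferInstance, ⟨⟨b.reindex Additive.ofMul, ?_, fun a c => ?_, fun a => ?_⟩⟩⟩
  · simp [hb]
  · simp [hb]
  · rw [Module.Basis.reindex_apply, hb]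
    exact isGL_of_groupLike (Additive.ofMul.symm a).isGroupLikeElem_val.comul_eq_tmul_self
      (Additive.ofMul.symm a).isGroupLikeElem_val.counit_eq_one

theorem exists_split_transfer' {R' : Type u} [CommRing R'] [Algebra R R'] [Algebra R' S] [IsScalarTower R R' S]
    {M : Type w} [AddCommGroup M] (E : Split R A M S) : Nonempty (Split R' (R' ⊗[R] A) M S) := by
  let ψ : S ⊗[R'] (R' ⊗[R] A) ≃ₐ[S] S ⊗[R] A := Algebra.TensorProduct.cancelBaseChange R R' S S A
  let i₁ : A →ₐ[R] S ⊗[R'] ((R' ⊗[R] A) ⊗[R'] (R' ⊗[R] A)) :=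
    ((J₁ R' (R' ⊗[R] A) S).restrictScalars R).comp
      ((ψ.symm.toAlgHom.restrictScalars R).comp Algebra.TensorProduct.includeRight)
  let i₂ : A →ₐ[R] S ⊗[R'] ((R' ⊗[R] A) ⊗[R'] (R' ⊗[R] A)) :=
    ((J₂ R' (R' ⊗[R] A) S).restrictScalars R).comp
      ((ψ.symm.toAlgHom.restrictScalars R).comp Algebra.TensorProduct.includeRight)
  letI hT : CommRing (S ⊗[R'] ((R' ⊗[R] A) ⊗[R'] (R' ⊗[R] A))) := Algebra.TensorProduct.instCommRing
  let Ψ : S ⊗[R] (A ⊗[R] A) →ₐ[S] S ⊗[R'] ((R' ⊗[R] A) ⊗[R'] (R' ⊗[R] A)) :=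
    Algebra.TensorProduct.lift (Algebra.ofId S _)
      (Algebra.TensorProduct.lift i₁ i₂ fun x y => hT.mul_comm _ _) fun x y => hT.mul_comm _ _
  have hψ : ∀ a : A, ψ.symm (1 ⊗ₜ[R] a) = 1 ⊗ₜ[R'] (1 ⊗ₜ[R] a) := fun a => by
    rw [AlgEquiv.symm_apply_eq]; simp [ψ]
  have h1 : Ψ.comp (J₁ R A S) = (J₁ R' (R' ⊗[R] A) S).comp ψ.symm.toAlgHom := by
    refine Algebra.TensorProduct.ext (Subsingleton.elim _ _) (AlgHom.ext fun a => ?_)
    simp [Ψ, J₁, i₁, i₂, hψ, ← Algebra.TensorProduct.one_def]
  have h2 : Ψ.comp (J₂ R A S) = (J₂ R' (R' ⊗[R] A) S).comp ψ.symm.toAlgHom := by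
    refine Algebra.TensorProduct.ext (Subsingleton.elim _ _) (AlgHom.ext fun a => ?_)
    simp [Ψ, J₂, i₁, i₂, hψ, ← Algebra.TensorProduct.one_def]
  have h3 : Ψ.comp (D R A S) = (D R' (R' ⊗[R] A) S).comp ψ.symm.toAlgHom := by
    refine Algebra.TensorProduct.ext (Subsingleton.elim _ _) (AlgHom.ext fun a => ?_)
    simp only [AlgHom.comp_apply, AlgHom.coe_restrictScalars', Algebra.TensorProduct.includeRight_apply,
      AlgEquiv.coe_toAlgHom, hψ, D, Algebra.TensorProduct.map_tmul, AlgHom.id_apply, Bialgebra.comulAlgHom_apply,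
      TensorProduct.comul_tmul, CommSemiring.comul_apply]
    generalize CoalgebraStruct.comul (R := R) a = z
    induction z using TensorProduct.induction_on with
    | zero => simp
    | add p q hp hq => simp only [TensorProduct.tmul_add, map_add, hp, hq]
    | tmul p q =>
      simp [Ψ, i₁, i₂, hψ, J₁, J₂, TensorProduct.AlgebraTensorModule.tensorTensorTensorComm_tmul,
        Algebra.TensorProduct.tmul_mul_tmul]
  have h4 : ev1 R A S = (ev1 R' (R' ⊗[R] A) S).comp ψ.symm.toAlgHom := by
    refine Algebra.TensorProduct.ext (Subsingleton.elim _ _) (AlgHom.ext fun a => ?_)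
    simp [ev1, hψ, TensorProduct.counit_tmul, Algebra.smul_def, ← IsScalarTower.algebraMap_apply]
  refine ⟨⟨E.e.map ψ.symm.toLinearEquiv, ?_, fun a b => ?_, fun a => ⟨?_, ?_⟩⟩⟩
  · simp [E.e_zero]
  · simp [E.e_add]
  · have h := congrArg Ψ (E.gl a).1
    rw [map_mul, ← AlgHom.comp_apply, ← AlgHom.comp_apply, ← AlgHom.comp_apply, h1, h2, h3] at h
    exact h
  · have h := (E.gl a).2
    rw [h4] at h
    exact h

/-- A single splitting over a faithfully flat algebra gives multiplicative type. -/
theorem isMultType_of_split {A : Type u} [CommRing A] [HopfAlgebra R A] {N : Type u} [CommGroup N]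
    [Module.FaithfullyFlat R S] (E : Split R A (Additive N) S) : SGA3b.IsMultType R A := by
  refine ⟨{1}, Ideal.span_singleton_one, fun f hf => ?_⟩
  obtain rfl := Set.mem_singleton_iff.1 hf
  let e := IsLocalization.atUnit R (Localization.Away (1 : R)) 1 isUnit_one
  letI : Algebra (Localization.Away (1 : R)) S :=
    ((algebraMap R S).comp e.symm.toRingHom).toAlgebra
  haveI : IsScalarTower R (Localization.Away (1 : R)) S := IsScalarTower.of_algebraMap_eq fun x => by
    rw [RingHom.algebraMap_toAlgebra]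
    show algebraMap R S x = algebraMap R S (e.symm (algebraMap R _ x))
    rw [AlgEquiv.commutes]
    rfl
  haveI : Module.FaithfullyFlat (Localization.Away (1 : R)) S := by
    haveI := IsLocalization.tensorProduct_compatibleSMul (Submonoid.powers (1 : R)) (Localization.Away (1 : R))
      (Localization.Away (1 : R)) S
    exact Module.FaithfullyFlat.of_linearEquiv _ _
      (TensorProduct.lidOfCompatibleSMul R (Localization.Away (1 : R)) S).symm
  obtain ⟨E'⟩ := exists_split_transfer' (R' := Localization.Away (1 : R)) E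
  exact ⟨S, inferInstance, inferInstance, inferInstance, N, inferInstance, exists_bialgEquiv E'⟩

end Groth.Agent.DiagHopf
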