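import Groth.Agent.DiagHopfLib.Family
import Groth.Agent.DiagHopfLib.HomExt
import Mathlib.RingTheory.TensorProduct.Quotient
import Mathlib.RingTheory.Idempotents

set_option autoImplicit false

/-!
Lifting diagonalisability along nil ideals.
-/

noncomputable section

universe u w w'

open scoped TensorProduct
open Groth.Agent.TorusField

namespace Groth.Agent.DiagHopf

variable {R : Type u} [CommRing R] {A : Type u} [CommRing A] [Bialgebra R A]
  {S S' : Type u} [CommRing S] [Algebra R S] [CommRing S'] [Algebra R S']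

theorem push_comp' {S'' : Type u} [CommRing S''] [Algebra R S''] (f : S →ₐ[R] S') (g : S' →ₐ[R] S'')
    (x : S ⊗[R] A) : push (g.comp f) x = push g (push f x) := by
  induction x using TensorProduct.induction_on with
  | zero => simp
  | add a b ha hb => simp only [map_add, ha, hb]
  | tmul s a => simp [push]

/-- Orthogonal idempotent combinations of group-like elements are group-like. -/
theorem isGL_sum {ι : Type*} [Fintype ι] {c : ι → S} (hc : CompleteOrthogonalIdempotents c) {z : ι → S ⊗[R] A}
    (hz : ∀ i, IsGL R A S (z i)) : IsGL R A S (∑ i, c i • z i) := by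
  classical
  refine ⟨?_, ?_⟩
  · simp only [map_sum, map_smul, (hz _).1, Finset.sum_mul_sum]
    refine Finset.sum_congr rfl fun i _ => ?_
    symm
    rw [Finset.sum_eq_single i]
    · rw [smul_mul_smul_comm, (hc.idem i).eq]
    · intro j _ hji
      rw [smul_mul_smul_comm, hc.ortho hji.symm, zero_smul]
    · simp
  · simp [(hz _).2, hc.complete]

theorem exists_coeff {M : Type w} [AddCommGroup M] (E : Split R A M S) {x : S ⊗[R] A} (hx : IsGL R A S x) :
    CompleteOrthogonalIdempotents (fun i : (E.e.repr x).support => E.e.repr x i) := by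
  classical
  refine ⟨⟨fun i => ?_, fun i j hij => ?_⟩, ?_⟩
  · have := E.repr_idem hx i.1 i.1
    rwa [if_pos rfl] at this
  · have := E.repr_idem hx i.1 j.1
    rwa [if_neg (fun h => hij (Subtype.ext h))] at this
  · rw [Finset.sum_coe_sort (E.e.repr x).support (fun i => E.e.repr x i)]
    exact E.sum_repr_gl hx

/-- Group-like elements lift along nil kernels in presence of a splitting. -/
theorem exists_gl_lift {N : Type w} [AddCommGroup N] (E : Split R A N S) (q : S →ₐ[R] S')
    (hq : Function.Surjective q) (hnil : ∀ x, q x = 0 → IsNilpotent x) {x₀ : S' ⊗[R] A} (hx₀ : IsGL R A S' x₀) :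
    ∃ x, IsGL R A S x ∧ push q x = x₀ := by
  classical
  obtain ⟨E', hE'⟩ := exists_split_push E q
  obtain ⟨c, hc, hqc⟩ := CompleteOrthogonalIdempotents.lift_of_isNilpotent_ker (f := q.toRingHom)
    (fun x hx => hnil x hx) (exists_coeff E' hx₀) fun i => hq _
  refine ⟨∑ i, c i • E.e i.1, isGL_sum hc fun i => E.gl i.1, ?_⟩
  simp only [map_sum, push_smul, ← hE']
  conv_rhs => rw [← E'.e.linearCombination_repr x₀, Finsupp.linearCombination_apply, Finsupp.sum]
  rw [← Finset.sum_coe_sort (E'.e.repr x₀).support (fun i => E'.e.repr x₀ i • E'.e i)]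
  exact Finset.sum_congr rfl fun i _ => congrArg (· • E'.e i.1) (congrFun hqc i)

/-- Splittings lift along nil kernels. -/
theorem exists_split_lift {N : Type w} [AddCommGroup N] {M : Type w'} [AddCommGroup M] (E : Split R A N S)
    (q : S →ₐ[R] S') (hq : Function.Surjective q) (hnil : ∀ x, q x = 0 → IsNilpotent x) (E₀ : Split R A M S') :
    ∃ E' : Split R A M S, ∀ m, push q (E'.e m) = E₀.e m := by
  classical
  obtain ⟨E₁, hE₁⟩ := exists_split_push E q
  choose y hy hqy using fun m => exists_gl_lift E q hq hnil (E₀.gl m)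
  have uniq : ∀ {a b}, IsGL R A S a → IsGL R A S b → push q a = push q b → a = b := fun ha hb h =>
    gl_eq_of_push_eq E q hnil ha hb h
  have h0 : y 0 = 1 := uniq (hy 0) (E.e_zero ▸ E.gl 0) (by rw [hqy, E₀.e_zero, map_one])
  have hadd : ∀ a b, y (a + b) = y a * y b := fun a b =>
    uniq (hy _) ((hy a).mul (hy b)) (by rw [hqy, E₀.e_add, map_mul, hqy, hqy])
  have hspan : ⊤ ≤ Submodule.span S (Set.range y) := by
    rw [← E.e.span_eq, Submodule.span_le]
    rintro _ ⟨n, rfl⟩
    obtain ⟨d, hd, hqd⟩ := CompleteOrthogonalIdempotents.lift_of_isNilpotent_ker (f := q.toRingHom)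
      (fun x hx => hnil x hx) (exists_coeff E₀ (E₁.gl n)) fun i => hq _
    have e : E.e n = ∑ i, d i • y i.1 := by
      refine uniq (E.gl n) (isGL_sum hd fun i => hy i.1) ?_
      simp only [map_sum, push_smul, hqy, ← hE₁]
      conv_lhs => rw [← E₀.e.linearCombination_repr (E₁.e n), Finsupp.linearCombination_apply, Finsupp.sum]
      rw [← Finset.sum_coe_sort (E₀.e.repr (E₁.e n)).support (fun i => E₀.e.repr (E₁.e n) i • E₀.e i)]
      exact Finset.sum_congr rfl fun i _ => congrArg (· • E₀.e i.1) (congrFun hqd i).symm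
    rw [e]
    exact sum_mem fun i _ => Submodule.smul_mem _ _ (Submodule.subset_span ⟨_, rfl⟩)
  have hidem : ∀ m n, IsIdempotentElem (E.e.repr (y m) n) := fun m n => by
    have := E.repr_idem (hy m) n n
    rwa [if_pos rfl] at this
  have hcol : ∀ m m' n, m ≠ m' → E.e.repr (y m) n * E.e.repr (y m') n = 0 := by
    intro m m' n hne
    refine ((hidem m n).mul (hidem m' n)).eq_zero_of_isNilpotent (hnil _ ?_)
    rw [map_mul, ← repr_push E E₁ q hE₁, ← repr_push E E₁ q hE₁, hqy, hqy]
    have key : ∀ k, E₁.e.repr (E₀.e k) n • E₀.e k = E₁.e.repr (E₀.e k) n • E₁.e n := fun k => by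
      refine E₁.e.ext_elem fun j => ?_
      rw [map_smul, map_smul, Finsupp.smul_apply, Finsupp.smul_apply, Module.Basis.repr_self, smul_eq_mul,
        smul_eq_mul, Finsupp.single_apply, E₁.repr_idem (E₀.gl k) n j]
      split_ifs with h
      · rw [mul_one]
      · rw [mul_zero]
    set a := E₁.e.repr (E₀.e m) n
    set b := E₁.e.repr (E₀.e m') n
    have e : (a * b) • E₀.e m = (a * b) • E₀.e m' := by
      rw [mul_comm a b, mul_smul, key m, mul_comm b a, mul_smul, key m', ← mul_smul, ← mul_smul, mul_comm b a]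
    have := congrArg (fun z => E₀.e.repr z m) e
    simpa [Finsupp.single_apply, Ne.symm hne] using this
  have hli : LinearIndependent S y := by
    rw [linearIndependent_iff']
    intro t s hs m hm
    have h : ∀ n, s m * E.e.repr (y m) n = 0 := by
      intro n
      have := congrArg (fun z => E.e.repr z n * E.e.repr (y m) n) hs
      simp only [map_sum, map_smul, Finsupp.coe_finsetSum, Finset.sum_apply, Finsupp.smul_apply, smul_eq_mul,
        Finset.sum_mul, map_zero, Finsupp.zero_apply, zero_mul] at this
      rw [Finset.sum_eq_single m (fun j _ hj => by rw [mul_assoc, hcol j m n hj, mul_zero])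
        (fun h => absurd hm h), mul_assoc, (hidem m n).eq] at this
      exact this
    calc s m = s m * (E.e.repr (y m)).sum fun _ c => c := by rw [E.sum_repr_gl (hy m), mul_one]
      _ = 0 := by rw [Finsupp.sum, Finset.mul_sum]; exact Finset.sum_eq_zero fun n _ => h n
  exact ⟨⟨Module.Basis.mk hli hspan, by rw [Module.Basis.mk_apply, h0],
    fun a b => by rw [Module.Basis.mk_apply, Module.Basis.mk_apply, Module.Basis.mk_apply, hadd],
    fun a => by rw [Module.Basis.mk_apply]; exact hy a⟩, fun m => by rw [← hqy m, Module.Basis.mk_apply]⟩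

/-- Splittings of a common type glue over finite products. -/
theorem exists_split_pi {ι : Type u} [Fintype ι] [DecidableEq ι] {T : ι → Type u} [∀ i, CommRing (T i)]
    [∀ i, Algebra R (T i)] {M : Type w} [AddCommGroup M] (E : ∀ i, Split R A M (T i)) :
    ∃ E' : Split R A M (Π i, T i), ∀ i m, push (Pi.evalAlgHom R T i) (E'.e m) = (E i).e m := by
  classical
  let ev := fun i => Pi.evalAlgHom R T i
  let y : M → (Π i, T i) ⊗[R] A := fun m => ∑ i, (LinearMap.single R T i).rTensor A ((E i).e m)
  have hy : ∀ j m, push (ev j) (y m) = (E j).e m := by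
    intro j m
    have h : ∀ i (z : T i ⊗[R] A), push (ev j) ((LinearMap.single R T i).rTensor A z) =
        ((ev j).toLinearMap ∘ₗ LinearMap.single R T i).rTensor A z := by
      intro i z
      rw [LinearMap.rTensor_comp]
      rfl
    simp only [y, map_sum, h]
    rw [Finset.sum_eq_single j]
    · rw [show (ev j).toLinearMap ∘ₗ LinearMap.single R T j = LinearMap.id from LinearMap.ext fun x => by simp [ev],
        LinearMap.rTensor_id, LinearMap.id_apply]
    · intro i _ hij
      rw [show (ev j).toLinearMap ∘ₗ LinearMap.single R T i = 0 from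
        LinearMap.ext fun x => by simp [ev, Ne.symm hij], LinearMap.rTensor_zero, LinearMap.zero_apply]
    · simp
  have ext' : ∀ {a b : (Π i, T i) ⊗[R] A}, (∀ i, push (ev i) a = push (ev i) b) → a = b := fun h => eq_of_push_pi h
  have h0 : y 0 = 1 := ext' fun i => by rw [hy, (E i).e_zero, map_one]
  have hadd : ∀ a b, y (a + b) = y a * y b := fun a b => ext' fun i => by rw [hy, (E i).e_add, map_mul, hy, hy]
  have hgl : ∀ m, IsGL R A (Π i, T i) (y m) := by
    intro m
    refine ⟨eq_of_push_pi (A := A ⊗[R] A) fun i => ?_, funext fun i => ?_⟩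
    · show push₂ (ev i) _ = push₂ (ev i) _
      rw [map_mul, push_D, push_J₁, push_J₂, hy]
      exact ((E i).gl m).1
    · have h := push_ev1 (ev i) (y m)
      rw [hy, ((E i).gl m).2] at h
      simpa [ev] using h
  have hli : LinearIndependent (Π i, T i) y := by
    rw [linearIndependent_iff']
    intro t s hs m hm
    funext i
    have := congrArg (push (ev i)) hs
    simp only [map_sum, push_smul, hy, map_zero] at this
    exact linearIndependent_iff'.1 (E i).e.linearIndependent t (fun m => ev i (s m)) this m hm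
  have hspan : ⊤ ≤ Submodule.span (Π i, T i) (Set.range y) := by
    intro z _
    let c : (i : ι) → M →₀ T i := fun i => (E i).e.repr (push (ev i) z)
    let U : Finset M := Finset.univ.biUnion fun i => (c i).support
    have e : z = ∑ m ∈ U, (fun i => c i m : Π i, T i) • y m := ext' fun i => by
      simp only [map_sum, push_smul, hy]
      have hsub : ((E i).e.repr (push (ev i) z)).support ⊆ U :=
        Finset.subset_biUnion_of_mem (fun i => (c i).support) (Finset.mem_univ i)
      conv_lhs => rw [← (E i).e.linearCombination_repr (push (ev i) z), Finsupp.linearCombination_apply,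
        Finsupp.sum_of_support_subset _ hsub (fun m a => a • (E i).e m) (fun m _ => zero_smul _ _)]
      rfl
    rw [e]
    exact sum_mem fun m _ => Submodule.smul_mem _ _ (Submodule.subset_span ⟨_, rfl⟩)
  exact ⟨⟨Module.Basis.mk hli hspan, by rw [Module.Basis.mk_apply, h0],
    fun a b => by rw [Module.Basis.mk_apply, Module.Basis.mk_apply, Module.Basis.mk_apply, hadd],
    fun a => by rw [Module.Basis.mk_apply]; exact hgl a⟩, fun i m => by rw [← hy i m, Module.Basis.mk_apply]⟩

/-- A splitting over a faithfully flat algebra whose basis comes from `A` gives diagonalisability. -/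
theorem isDiag_of_descended {A : Type u} [CommRing A] [HopfAlgebra R A] [Module.FaithfullyFlat R S]
    {N : Type u} [CommGroup N] (E : Split R A (Additive N) S)
    (h : ∀ n, ∃ a : A, (1 : S) ⊗ₜ[R] a = E.e n) : SGA3b.IsDiag R A := by
  choose a ha using h
  have inj : ∀ {V : Type u} [AddCommGroup V] [Module R V] {x y : V}, (1 : S) ⊗ₜ[R] x = 1 ⊗ₜ y → x = y :=
    fun h => Module.FaithfullyFlat.tensorProduct_mk_injective (A := R) (B := S) _ h
  let F : MonoidAlgebra R N →ₐ[R] A := MonoidAlgebra.lift R A N
    { toFun := fun n => a (Additive.ofMul n)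
      map_one' := inj (by rw [ha, ofMul_one, E.e_zero]; rfl)
      map_mul' := fun x y => inj (by
        rw [ha, ofMul_mul, E.e_add, ← ha, ← ha, Algebra.TensorProduct.tmul_mul_tmul, one_mul]) }
  have hF : ∀ n, F (MonoidAlgebra.single n 1) = a (Additive.ofMul n) := fun n => by simp [F]
  have hcomul : ∀ n, Bialgebra.comulAlgHom R A (a n) = a n ⊗ₜ[R] a n := fun n => inj (by
    have h := (E.gl n).1
    rw [← ha, show D R A S ((1 : S) ⊗ₜ[R] a n) = 1 ⊗ₜ[R] Bialgebra.comulAlgHom R A (a n) by simp [D]] at h
    rw [h]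
    simp [J₁, J₂])
  have hcounit : ∀ n, Coalgebra.counit (R := R) (a n) = 1 := fun n => by
    have h := (E.gl n).2
    rw [← ha] at h
    simp only [ev1, Algebra.TensorProduct.lift_tmul, map_one, one_mul, AlgHom.comp_apply,
      Bialgebra.counitAlgHom_apply] at h
    refine (injective_iff_map_eq_zero (algebraMap R S)).2 ?_ (h.trans (map_one _).symm)
    exact fun r hr => inj (V := R) (by
      rw [TensorProduct.tmul_zero, show r = r • (1 : R) by simp, TensorProduct.tmul_smul,
        TensorProduct.smul_tmul', ← Algebra.algebraMap_eq_smul_one, hr, TensorProduct.zero_tmul])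
  let G : MonoidAlgebra R N →ₐc[R] A := BialgHom.ofAlgHom F
    (MonoidAlgebra.algHom_ext (fun n => by simp [hF, hcounit]) (Subsingleton.elim _ _))
    (MonoidAlgebra.algHom_ext (fun n => by
      have := hcomul (Additive.ofMul n)
      simp [hF] at this ⊢
      exact this.symm) (Subsingleton.elim _ _))
  have hG : Function.Bijective G := by
    let b := (Algebra.TensorProduct.basis S (MonoidAlgebra.basis N R))
    let L := b.equiv (E.e.reindex Additive.toMul) (Equiv.refl N)
    have e : (G : MonoidAlgebra R N →ₗ[R] A).baseChange S = L.toLinearMap := b.ext fun n => by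
      refine Eq.trans ?_ (Module.Basis.equiv_apply (b := b) (b' := E.e.reindex Additive.toMul)
        (e := Equiv.refl N) (i := n)).symm
      rw [Module.Basis.reindex_apply, Algebra.TensorProduct.basis_apply, LinearMap.baseChange_tmul,
        MonoidAlgebra.basis_apply]
      exact (congrArg ((1 : S) ⊗ₜ[R] ·) (hF n)).trans (ha _)
    refine (Module.FaithfullyFlat.lTensor_bijective_iff_bijective R S (G : MonoidAlgebra R N →ₗ[R] A)).1 ?_
    have : ⇑((G : MonoidAlgebra R N →ₗ[R] A).lTensor S) = ⇑L := funext fun x => LinearMap.congr_fun e x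
    rw [this]
    exact L.bijective
  exact ⟨N, inferInstance, ⟨(BialgEquiv.ofBijective G hG).symm⟩⟩

/-- Diagonalisability lifts along nil ideals. -/
theorem isDiag_of_nil {A : Type u} [CommRing A] [HopfAlgebra R A] {I : Ideal R} (hI : ∀ x ∈ I, IsNilpotent x)
    (h : SGA3b.IsMultType R A) (h0 : SGA3b.IsDiag (R ⧸ I) ((R ⧸ I) ⊗[R] A)) : SGA3b.IsDiag R A := by
  classical
  obtain ⟨N, _, ⟨e⟩⟩ := h0
  obtain ⟨E₀⟩ := exists_split_of_bialgEquiv e
  obtain ⟨ι, _, T, _, _, N', _, hff, hE⟩ := exists_family_split h
  haveI := hff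
  let q : ∀ (V : Type u) [CommRing V] [Algebra R V], V →ₐ[R] V ⊗[R] (R ⧸ I) := fun V _ _ =>
    Algebra.TensorProduct.includeLeft
  let r : ∀ (V : Type u) [CommRing V] [Algebra R V], (R ⧸ I) →ₐ[R] V ⊗[R] (R ⧸ I) := fun V _ _ =>
    Algebra.TensorProduct.includeRight
  have hnil : ∀ (V : Type u) [CommRing V] [Algebra R V] (x : V), q V x = 0 → IsNilpotent x := by
    intro V _ _ x hx
    have hx' : x ∈ I.map (algebraMap R V) := by
      rw [← Ideal.Quotient.eq_zero_iff_mem]
      apply (Algebra.TensorProduct.quotIdealMapEquivTensorQuot V I).injective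
      rw [map_zero]
      exact ((Algebra.TensorProduct.quotIdealMapEquivTensorQuot V I).commutes x).trans hx
    refine mem_nilradical.1 (Ideal.map_le_iff_le_comap.2 (fun y hy => ?_) hx')
    exact mem_nilradical.2 ((hI y hy).map (algebraMap R V))
  have hsurj : ∀ (V : Type u) [CommRing V] [Algebra R V], Function.Surjective (q V) := by
    intro V _ _ y
    induction y using TensorProduct.induction_on with
    | zero => exact ⟨0, map_zero _⟩
    | add a b ha hb =>
      obtain ⟨a', rfl⟩ := ha
      obtain ⟨b', rfl⟩ := hb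
      exact ⟨a' + b', map_add _ _ _⟩
    | tmul v c =>
      obtain ⟨c, rfl⟩ := Ideal.Quotient.mk_surjective c
      refine ⟨c • v, ?_⟩
      show (c • v) ⊗ₜ[R] (1 : R ⧸ I) = _
      rw [TensorProduct.smul_tmul, ← Algebra.algebraMap_eq_smul_one]
      rfl
  have hlift : ∀ i, ∃ E' : Split R A (Additive N) (T i), ∀ m, push (q (T i)) (E'.e m) = push (r (T i)) (E₀.e m) := by
    intro i
    obtain ⟨E₁, hE₁⟩ := exists_split_push E₀ (r (T i))
    obtain ⟨E'', hE''⟩ := exists_split_lift (hE i).some (q (T i)) (hsurj _) (hnil _) E₁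
    exact ⟨E'', fun m => by rw [hE'', hE₁]⟩
  choose E' hE' using hlift
  obtain ⟨E, hEE⟩ := exists_split_pi E'
  have key : ∀ m, push (q (Π i, T i)) (E.e m) = push (r (Π i, T i)) (E₀.e m) := by
    intro m
    refine sub_eq_zero.1 (eq_zero_of_rTensor_eq_zero
      (fun i => (Pi.evalAlgHom R T i).toLinearMap.rTensor (R ⧸ I))
      (fun i => (LinearMap.single R T i).rTensor (R ⧸ I)) ?_ fun i => ?_)
    · intro x
      induction x using TensorProduct.induction_on with
      | zero => simp
      | add a b ha hb => simp only [map_add, Finset.sum_add_distrib, ha, hb]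
      | tmul v c =>
        simp only [LinearMap.rTensor_tmul, ← TensorProduct.sum_tmul]
        exact congrArg (· ⊗ₜ[R] c) (sum_single_proj T v)
    · rw [map_sub, sub_eq_zero]
      let p : (Π i, T i) ⊗[R] (R ⧸ I) →ₐ[R] T i ⊗[R] (R ⧸ I) :=
        Algebra.TensorProduct.map (Pi.evalAlgHom R T i) (AlgHom.id R _)
      show push p (push (q _) (E.e m)) = push p (push (r _) (E₀.e m))
      rw [← push_comp', ← push_comp', show p.comp (q _) = (q (T i)).comp (Pi.evalAlgHom R T i) from
        AlgHom.ext fun x => by simp [p, q], show p.comp (r _) = r (T i) from AlgHom.ext fun x => by simp [p, r],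
        push_comp', hEE, hE']
  refine isDiag_of_descended E fun m => exists_of_coface_eq ?_
  let i₁ : (Π i, T i) →ₐ[R] (Π i, T i) ⊗[R] (Π i, T i) := Algebra.TensorProduct.includeLeft
  let i₂ : (Π i, T i) →ₐ[R] (Π i, T i) ⊗[R] (Π i, T i) := Algebra.TensorProduct.includeRight
  show push i₁ (E.e m) = push i₂ (E.e m)
  obtain ⟨E₂, -⟩ := exists_split_push E i₁
  refine gl_eq_of_push_eq E₂ (q _) (hnil _) ((E.gl m).push i₁) ((E.gl m).push i₂) ?_
  have e : ∀ (j : (Π i, T i) →ₐ[R] (Π i, T i) ⊗[R] (Π i, T i)),
      push (q ((Π i, T i) ⊗[R] (Π i, T i))) (push j (E.e m)) = push (r _) (E₀.e m) := by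
    intro j
    rw [← push_comp', show (q _).comp j =
      (Algebra.TensorProduct.map j (AlgHom.id R (R ⧸ I))).comp (q _) from AlgHom.ext fun x => by simp [q],
      push_comp', key, ← push_comp', show (Algebra.TensorProduct.map j (AlgHom.id R (R ⧸ I))).comp (r _) = r _ from
        AlgHom.ext fun x => by simp [r]]
  rw [e, e]

end Groth.Agent.DiagHopf
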